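import Mathlib
import Cfsg.Agent.Coprime.Sylow
import Cfsg.Agent.Transfer.FrobeniusApps

/-!
Elementary lemmas for groups in which the proper subgroups of order divisible by `q` are `{p, q}`-groups.
-/

set_option autoImplicit false
set_option linter.unusedSectionVars false

namespace Cfsg.Lib.Mixed

open Subgroup
open scoped Pointwise

variable {G : Type*} [Group G] [Finite G]

/-- `z` has `p`-power order. -/
def PE (p : ℕ) (z : G) : Prop := ∃ k, orderOf z = p ^ k

variable {p : ℕ} [hp : Fact p.Prime]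

theorem PE.of_mem {H : Subgroup G} (hH : IsPGroup p H) {z : G} (hz : z ∈ H) : PE p z := by
  obtain ⟨k, hk⟩ := hH ⟨z, hz⟩
  obtain ⟨j, -, hj⟩ := (Nat.dvd_prime_pow hp.out).1 (orderOf_dvd_of_pow_eq_one
    (show z ^ p ^ k = 1 by simpa using congrArg Subtype.val hk))
  exact ⟨j, hj⟩

theorem PE.zpowers {z : G} (hz : PE p z) : IsPGroup p (Subgroup.zpowers z) := by
  obtain ⟨k, hk⟩ := hz
  exact IsPGroup.of_card (by rw [Nat.card_zpowers, hk])

theorem PE.conj {z : G} (hz : PE p z) (g : G) : PE p (g * z * g⁻¹) := by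
  obtain ⟨k, hk⟩ := hz
  exact ⟨k, by rw [← MulAut.conj_apply, MulEquiv.orderOf_eq, hk]⟩

theorem PE.pow {z : G} (hz : PE p z) (n : ℕ) : PE p (z ^ n) :=
  PE.of_mem hz.zpowers (pow_mem (Subgroup.mem_zpowers z) n)

theorem PE.inv {z : G} (hz : PE p z) : PE p z⁻¹ :=
  PE.of_mem hz.zpowers (inv_mem (Subgroup.mem_zpowers z))

theorem PE.eq_one_of_coprime {z : G} (hz : PE p z) {n : ℕ} (hn : ¬ p ∣ n) (h : z ^ n = 1) :
    z = 1 := by
  obtain ⟨k, hk⟩ := hz
  have hd := orderOf_dvd_of_pow_eq_one h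
  rw [hk] at hd
  rcases Nat.eq_zero_or_pos k with rfl | h0
  · exact orderOf_eq_one_iff.1 (by rw [hk, pow_zero])
  · exact absurd ((dvd_pow_self p h0.ne').trans hd) hn

theorem mem_smul_sylow {P : Sylow p G} {g x : G} :
    x ∈ ((g • P : Sylow p G) : Subgroup G) ↔ g⁻¹ * x * g ∈ (P : Subgroup G) := by
  rw [Sylow.coe_subgroup_smul, Subgroup.mem_pointwise_smul_iff_inv_smul_mem]
  simp [MulAut.smul_def]

theorem exists_conj_mem (P : Sylow p G) {x : G} (hx : PE p x) :
    ∃ g : G, g * x * g⁻¹ ∈ (P : Subgroup G) := by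
  obtain ⟨R, hR⟩ := hx.zpowers.exists_le_sylow
  obtain ⟨g, hg⟩ := MulAction.exists_smul_eq G R P
  refine ⟨g, ?_⟩
  rw [← hg, mem_smul_sylow]
  simpa [mul_assoc] using hR (Subgroup.mem_zpowers x)

theorem mem_normalizer_of_maps {H : Subgroup G} {g : G} (h : ∀ z ∈ H, g * z * g⁻¹ ∈ H) :
    g ∈ normalizer (H : Set G) := by
  have h1 : H.map (MulAut.conj g).toMonoidHom = H := by
    refine Subgroup.eq_of_le_of_card_ge ?_ (by
      rw [Subgroup.card_map_of_injective (MulAut.conj g).injective])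
    rintro _ ⟨z, hz, rfl⟩
    exact h z hz
  refine mem_normalizer_iff.2 fun z => ⟨h z, fun hz => ?_⟩
  rw [← h1] at hz
  obtain ⟨w, hw, e⟩ := hz
  have e' : g * w * g⁻¹ = g * z * g⁻¹ := e
  exact mul_left_cancel (mul_right_cancel e') ▸ hw

theorem mem_normalizer_zpowers {x g : G} (h : g * x * g⁻¹ = x ∨ g * x * g⁻¹ = x⁻¹) :
    g ∈ normalizer (Subgroup.zpowers x : Set G) := by
  refine mem_normalizer_of_maps fun z hz => ?_
  obtain ⟨i, rfl⟩ := Subgroup.mem_zpowers_iff.1 hz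
  rw [← MulAut.conj_apply, map_zpow]
  rcases h with h | h <;> rw [MulAut.conj_apply, h]
  · exact zpow_mem (Subgroup.mem_zpowers x) i
  · exact zpow_mem (inv_mem (Subgroup.mem_zpowers x)) i

/-- a `p`-element normalizing a Sylow `p`-subgroup lies in it -/
theorem mem_sylow_of_normalizes (P : Sylow p G) {z : G} (hz : PE p z)
    (hzN : z ∈ normalizer ((P : Subgroup G) : Set G)) : z ∈ (P : Subgroup G) := by
  have hle : Subgroup.zpowers z ≤ normalizer ((P : Subgroup G) : Set G) :=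
    (Subgroup.zpowers_le).2 hzN
  have hpg : IsPGroup p ↥(Subgroup.zpowers z ⊔ (P : Subgroup G)) :=
    hz.zpowers.to_sup_of_normal_right' P.2 hle
  have := P.3 hpg le_sup_right
  exact this.le (Subgroup.mem_sup_left (Subgroup.mem_zpowers z))

theorem sylow_le_of_normalizer (P R : Sylow p G) (h : (R : Subgroup G) ≤ normalizer ((P : Subgroup G) : Set G)) :
    R = P :=
  (Sylow.ext (R.3 P.2 fun _ hx => mem_sylow_of_normalizes P (PE.of_mem R.2 hx) (h hx)).symm)

theorem mem_of_coprime_index (N : Subgroup G) [N.Normal] {z : G}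
    (h : (orderOf z).Coprime N.index) : z ∈ N := by
  rw [← QuotientGroup.eq_one_iff, ← orderOf_eq_one_iff]
  exact Nat.eq_one_of_dvd_coprimes h (orderOf_map_dvd (QuotientGroup.mk' N) z)
    (Subgroup.index_eq_card N ▸ orderOf_dvd_natCard _)

/-- An orbit of a `p`-element on a subgroup it normalizes. -/
theorem orbit_big {X : Subgroup G} {z : G} (hz : PE p z)
    (hN : z ∈ normalizer (X : Set G)) {v : G} (hv : v ∈ X) (hnc : z * v * z⁻¹ ≠ v) :
    ∃ O : Finset G, p ≤ O.card ∧ (∀ w ∈ O, w ∈ X ∧ w ≠ 1 ∧ ∃ i : ℕ, z ^ i * v * (z ^ i)⁻¹ = w) := by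
  classical
  have := Fintype.ofFinite G
  set Z : Subgroup (ConjAct G) := (Subgroup.zpowers z).map ConjAct.toConjAct.toMonoidHom with hZ
  have hZp : IsPGroup p Z := hz.zpowers.map _
  obtain ⟨j, hj⟩ := hZp.card_orbit (a := v)
  have hmem : ∀ w ∈ MulAction.orbit Z v, ∃ i : ℕ, z ^ i * v * (z ^ i)⁻¹ = w := by
    rintro w ⟨⟨g, ⟨h, hh, rfl⟩⟩, rfl⟩
    obtain ⟨i, rfl⟩ := (mem_powers_iff_mem_zpowers).2 hh
    exact ⟨i, (ConjAct.toConjAct_smul (z ^ i) v).symm⟩
  refine ⟨(MulAction.orbit Z v).toFinset, ?_, fun w hw => ?_⟩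
  · rw [← Nat.card_eq_card_toFinset, hj]
    rcases Nat.eq_zero_or_pos j with rfl | h0
    · exfalso
      rw [pow_zero, Nat.card_eq_one_iff_unique] at hj
      refine hnc ?_
      have h1 : z * v * z⁻¹ ∈ MulAction.orbit Z v :=
        ⟨⟨_, z, Subgroup.mem_zpowers z, rfl⟩, ConjAct.toConjAct_smul z v⟩
      exact congrArg Subtype.val (hj.1.elim ⟨_, h1⟩ ⟨v, MulAction.mem_orbit_self v⟩)
    · exact le_trans (by simp) (Nat.pow_le_pow_right hp.out.pos h0)
  · obtain ⟨i, rfl⟩ := hmem w (by simpa using hw)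
    refine ⟨((mem_normalizer_iff.1 (pow_mem hN i)) v).1 hv, fun h1 => hnc ?_, i, rfl⟩
    rw [conj_eq_one_iff] at h1
    rw [h1, mul_one, mul_inv_cancel]

theorem card_le_sub_one {X : Subgroup G} (O : Finset G) (h : ∀ w ∈ O, w ∈ X ∧ w ≠ 1) :
    O.card ≤ Nat.card X - 1 ∧ (O.card = Nat.card X - 1 → ∀ w ∈ X, w ≠ 1 → w ∈ O) := by
  classical
  have := Fintype.ofFinite G
  have hc : ((X : Set G).toFinset.erase 1).card = Nat.card X - 1 := by
    rw [Finset.card_erase_of_mem (by simp [X.one_mem]), ← Nat.card_eq_card_toFinset]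
    rfl
  have hsub : O ⊆ (X : Set G).toFinset.erase 1 := fun w hw => by
    simp [(h w hw).1, (h w hw).2]
  refine ⟨hc ▸ Finset.card_le_card hsub, fun he w hw hw1 => ?_⟩
  rw [Finset.eq_of_subset_of_card_le hsub (by omega)]
  simp [hw, hw1]

end Cfsg.Lib.Mixed
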