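import Cfsg.Agent.MixedPrimes.Local

/-!
The case analysis: no `p`-element centralizes `Q`, some involution of `Q` has `p`-elements in its centralizer,
and then `Q` is a four-group and a Sylow `p`-subgroup centralizes an involution.
-/

set_option autoImplicit false
set_option linter.unusedSectionVars false

namespace Cfsg.Lib.Mixed

open Subgroup
open Cfsg.Lib.Coprime
open scoped Pointwise

variable {G : Type*} [Group G] [Finite G]

namespace Sp

variable {p : ℕ} [hp : Fact p.Prime] {Q : Sylow 2 G} {y : G} (S : Sp G p Q y)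
include S

theorem conj_orderOf (g x : G) : orderOf (g * x * g⁻¹) = orderOf x := by
  rw [← MulAut.conj_apply, MulEquiv.orderOf_eq]

theorem conj_commute {g a b : G} (h : Commute a b) : Commute (g * a * g⁻¹) (g * b * g⁻¹) := by
  simpa using h.map (MulAut.conj g).toMonoidHom

theorem exists_conj_Q {t : G} (ht : orderOf t = 2) :
    ∃ g : G, g * t * g⁻¹ ∈ (Q : Subgroup G) ∧ g * t * g⁻¹ ≠ 1 := by
  obtain ⟨g, hg⟩ := exists_conj_mem Q (x := t) ⟨1, by rw [ht, pow_one]⟩
  refine ⟨g, hg, fun h => ?_⟩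
  rw [← S.conj_orderOf g t, h, orderOf_one] at ht
  omega

theorem odd_eq_one {x : G} (hx : PE p x) (h : x⁻¹ = x) : x = 1 := by
  refine hx.eq_one_of_coprime S.not_dvd_two ?_
  rw [pow_two]
  nth_rw 1 [← h]
  exact inv_mul_cancel x

theorem comm_cent {s : G} (hs : s ∈ (Q : Subgroup G)) (hs1 : s ≠ 1) {z w : G} (hz : PE p z)
    (hzs : Commute z s) (hw : PE p w) (hws : Commute w s) : z * w = w * z := by
  obtain ⟨O, -, hO, hmem, -, -⟩ := S.cent_structure hs hs1
  exact S.commP hO (hmem z hz (mem_centralizer_singleton_iff.2 hzs))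
    (hmem w hw (mem_centralizer_singleton_iff.2 hws))

theorem inverts_mem_normalizer {z t : G} (hinv : t * z * t⁻¹ = z⁻¹) :
    t ∈ normalizer (Subgroup.zpowers z : Set G) := mem_normalizer_zpowers (Or.inr hinv)

theorem centralizer_le_normalizer_zpowers (z : G) :
    centralizer ({z} : Set G) ≤ normalizer (Subgroup.zpowers z : Set G) := fun g hg =>
  mem_normalizer_zpowers (Or.inl (by rw [mem_centralizer_singleton_iff.1 hg, mul_inv_cancel_right]))

/-- the centralizer of an inverted `p`-element, when it has odd order -/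
theorem odd_centralizer {t z : G} (ht : orderOf t = 2) (hz : PE p z) (hz1 : z ≠ 1)
    (hinv : t * z * t⁻¹ = z⁻¹) (hodd : ¬ 2 ∣ Nat.card (centralizer ({z} : Set G))) :
    ∃ P : Sylow p G, t ∈ normalizer ((P : Subgroup G) : Set G) ∧
      (P : Subgroup G) = centralizer ({z} : Set G) ∧ z ∈ (P : Subgroup G) := by
  set H := centralizer ({z} : Set G) ⊔ Subgroup.zpowers t with hH
  have hHle : H ≤ normalizer (Subgroup.zpowers z : Set G) :=
    sup_le (S.centralizer_le_normalizer_zpowers z)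
      (Subgroup.zpowers_le.2 (S.inverts_mem_normalizer hinv))
  have hHt : H ≠ ⊤ := fun h => S.normalizer_zpowers_ne_top hz1 (top_le_iff.1 (h ▸ hHle))
  have h2 : 2 ∣ Nat.card H := ht ▸ Subgroup.orderOf_dvd_natCard _
    ((le_sup_right (a := centralizer ({z} : Set G))) (Subgroup.mem_zpowers t))
  have hp' : IsPGroup p (centralizer ({z} : Set G)) :=
    IsPGroup.of_card (Nat.eq_prime_pow_of_unique_prime_dvd Nat.card_pos.ne' fun {d} hd hdd => by
      rcases S.sub H hHt h2 d hd (hdd.trans (Subgroup.card_dvd_of_le le_sup_left)) with e | e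
      · exact e
      · exact absurd (e ▸ hdd) hodd)
  obtain ⟨P, hP⟩ := hz.zpowers.exists_le_sylow
  have hzP := hP (Subgroup.mem_zpowers z)
  have hPC : (P : Subgroup G) = centralizer ({z} : Set G) :=
    (P.3 hp' (S.sylow_le_centralizer P.2 hzP)).symm
  refine ⟨P, ?_, hPC, hzP⟩
  rw [hPC]
  refine mem_normalizer_of_maps fun w hw => mem_centralizer_singleton_iff.2 ?_
  have h1 : Commute (t * w * t⁻¹) (t * z * t⁻¹) :=
    S.conj_commute (mem_centralizer_singleton_iff.1 hw)
  rw [hinv] at h1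
  simpa using h1.inv_right.eq

theorem prime_dvd_product {s t : G} (hs : orderOf s = 2) (ht : orderOf t = 2) {l : ℕ} (hl : l.Prime)
    (h : l ∣ orderOf (s * t)) : l = p ∨ l = 2 := by
  haveI := Fact.mk hl
  set x := s * t with hx
  set w := x ^ (orderOf x / l) with hw
  have how : orderOf w = l := by
    rw [hw, orderOf_pow_of_dvd (Nat.div_pos (Nat.le_of_dvd (orderOf_pos x) h) hl.pos).ne'
      (Nat.div_dvd_of_dvd h), Nat.div_div_self h (orderOf_pos x).ne']
  have hs' : s * s = 1 := by rw [← pow_two, ← hs, pow_orderOf_eq_one]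
  have ht' : t * t = 1 := by rw [← pow_two, ← ht, pow_orderOf_eq_one]
  have hinv : t * w * t⁻¹ = w⁻¹ := by
    have h0 : t * x * t⁻¹ = x⁻¹ := by
      rw [hx, mul_inv_rev, inv_eq_of_mul_eq_one_right hs', inv_eq_of_mul_eq_one_right ht',
        ← mul_assoc, mul_assoc (t * s), ht', mul_one]
    rw [hw, ← MulAut.conj_apply, map_pow, MulAut.conj_apply, h0, inv_pow]
  have hY : Subgroup.zpowers t ≤ normalizer (Subgroup.zpowers w : Set G) :=
    Subgroup.zpowers_le.2 (S.inverts_mem_normalizer hinv)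
  have hw1 : w ≠ 1 := fun e => by rw [e, orderOf_one] at how; exact hl.one_lt.ne how
  have hne : Subgroup.zpowers w ⊔ Subgroup.zpowers t ≠ ⊤ := fun e =>
    S.normalizer_zpowers_ne_top hw1 (top_le_iff.1 (e ▸ sup_le le_normalizer hY))
  exact S.sub _ hne (ht ▸ Subgroup.orderOf_dvd_natCard _
      ((le_sup_right (a := Subgroup.zpowers w)) (Subgroup.mem_zpowers t))) l hl
    (how ▸ Subgroup.orderOf_dvd_natCard _
      ((le_sup_left (b := Subgroup.zpowers t)) (Subgroup.mem_zpowers w)))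

/-- the `p`-part of the product of two involutions -/
theorem product_pow {s t : G} (hs : orderOf s = 2) (ht : orderOf t = 2) :
    ∃ a j : ℕ, orderOf (s * t) = 2 ^ a * p ^ j := by
  set n := orderOf (s * t) with hn
  have hn0 : n ≠ 0 := (orderOf_pos _).ne'
  have hc : n / 2 ^ n.factorization 2 ≠ 0 := (Nat.ordCompl_pos 2 hn0).ne'
  refine ⟨n.factorization 2, (n / 2 ^ n.factorization 2).primeFactorsList.length, ?_⟩
  rw [← Nat.eq_prime_pow_of_unique_prime_dvd hc fun {d} hd hdd => ?_,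
    Nat.ordProj_mul_ordCompl_eq_self]
  rcases S.prime_dvd_product hs ht hd (hdd.trans (Nat.ordCompl_dvd _ 2)) with e | e
  · exact e
  · exact absurd (e ▸ hdd) (Nat.not_dvd_ordCompl Nat.prime_two hn0)

theorem two_part_sq {x : G} {j : ℕ} (h : orderOf x = 2 ^ j) : x * x = 1 := by
  obtain ⟨g, hg⟩ := exists_conj_mem Q (x := x) ⟨j, h⟩
  have h1 := S.exp _ hg
  rw [show g * x * g⁻¹ * (g * x * g⁻¹) = g * (x * x) * g⁻¹ by group, conj_eq_one_iff] at h1
  exact h1

theorem no_inverted_contra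
    (h : ∀ t z : G, orderOf t = 2 → PE p z → t * z * t⁻¹ = z⁻¹ → z = 1) : False := by
  have hcomm : ∀ s t : G, orderOf s = 2 → orderOf t = 2 → s * t = t * s := by
    intro s t hs ht
    obtain ⟨a, j, hij⟩ := S.product_pow hs ht
    set x := s * t with hx
    have hs' : s * s = 1 := by rw [← pow_two, ← hs, pow_orderOf_eq_one]
    have ht' : t * t = 1 := by rw [← pow_two, ← ht, pow_orderOf_eq_one]
    have h0 : t * x * t⁻¹ = x⁻¹ := by
      rw [hx, mul_inv_rev, inv_eq_of_mul_eq_one_right hs', inv_eq_of_mul_eq_one_right ht',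
        ← mul_assoc, mul_assoc (t * s), ht', mul_one]
    have hz : x ^ 2 ^ a = 1 := by
      refine h t _ ht ⟨j, ?_⟩ ?_
      · rw [orderOf_pow_of_dvd (by positivity) (hij ▸ dvd_mul_right _ _), hij,
          Nat.mul_div_cancel_left _ (by positivity)]
      · rw [← MulAut.conj_apply, map_pow, MulAut.conj_apply, h0, inv_pow]
    obtain ⟨b, -, hb⟩ := (Nat.dvd_prime_pow Nat.prime_two).1 (orderOf_dvd_of_pow_eq_one hz)
    have h2 := S.two_part_sq hb
    calc s * t = x := rfl
      _ = x⁻¹ := (inv_eq_of_mul_eq_one_right h2).symm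
      _ = t * s := by rw [hx, mul_inv_rev, inv_eq_of_mul_eq_one_right hs', inv_eq_of_mul_eq_one_right ht']
  set A := Subgroup.closure {t : G | orderOf t = 2} with hA
  have hAn : A.Normal := ⟨fun x hx g => by
    have h1 : A.map (MulAut.conj g).toMonoidHom ≤ A := by
      rw [hA, MonoidHom.map_closure, Subgroup.closure_le]
      rintro _ ⟨v, hv, rfl⟩
      exact Subgroup.subset_closure ((S.conj_orderOf g v).trans hv)
    exact h1 ⟨x, hx, rfl⟩⟩
  rcases S.simple A hAn with e | e
  · obtain ⟨u, hu, hu1⟩ := S.exists_one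
    exact hu1 (Subgroup.mem_bot.1 (e ▸ Subgroup.subset_closure (S.orderOf_mem hu hu1)))
  · haveI : IsMulCommutative A := Subgroup.isMulCommutative_closure fun a ha b hb => hcomm a b ha hb
    exact S.not_comm_all fun a b => Subtype.ext_iff.1
      (mul_comm' (⟨a, e ▸ mem_top a⟩ : A) ⟨b, e ▸ mem_top b⟩)

/-- no nontrivial `p`-element centralizes `Q` -/
theorem centralizer_Q_trivial {z₀ : G} (hz₀ : PE p z₀)
    (hc₀ : z₀ ∈ centralizer ((Q : Subgroup G) : Set G)) : z₀ = 1 := by
  by_contra hne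
  obtain ⟨u, hu, hu1⟩ := S.exists_one
  obtain ⟨O, hOn, hO, hmem, hOle, -⟩ := S.cent_structure hu hu1
  set P₀ := O ⊓ centralizer ((Q : Subgroup G) : Set G) with hP₀
  have hiff : ∀ z, z ∈ P₀ ↔ PE p z ∧ z ∈ centralizer ((Q : Subgroup G) : Set G) := fun z =>
    ⟨fun h => ⟨PE.of_mem hO h.1, h.2⟩, fun h => ⟨hmem z h.1 (mem_centralizer_singleton_iff.2
      ((mem_centralizer_iff.1 h.2) u hu).symm), h.2⟩⟩
  have hP₀p : IsPGroup p P₀ := hO.to_le inf_le_left
  have hP₀1 : P₀ ≠ ⊥ := fun e => hne (Subgroup.mem_bot.1 (e ▸ (hiff z₀).2 ⟨hz₀, hc₀⟩))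
  have hyN : y ∈ normalizer (P₀ : Set G) := mem_normalizer_of_maps fun z hz => by
    obtain ⟨h1, h2⟩ := (hiff z).1 hz
    refine (hiff _).2 ⟨h1.conj y, ?_⟩
    rw [mem_centralizer_iff]
    intro w hw
    have hw' : y⁻¹ * w * y ∈ (Q : Subgroup G) := by
      simpa using ((mem_normalizer_iff.1 (inv_mem S.yN)) w).1 hw
    have h3 : Commute (y * (y⁻¹ * w * y) * y⁻¹) (y * z * y⁻¹) :=
      S.conj_commute ((mem_centralizer_iff.1 h2) _ hw')
    simpa [mul_assoc] using h3.eq
  have hyp : PE p y := S.yP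
  obtain ⟨P, hP⟩ := (hyp.zpowers.to_sup_of_normal_right' hP₀p (Subgroup.zpowers_le.2 hyN)).exists_le_sylow
  have hyPm : y ∈ (P : Subgroup G) := hP (Subgroup.mem_sup_left (Subgroup.mem_zpowers y))
  have hP₀P : P₀ ≤ (P : Subgroup G) := le_sup_right.trans hP
  have key : ∀ z ∈ P₀, z ≠ 1 →
      normalizer (Subgroup.zpowers z : Set G) ≤ normalizer ((Q : Subgroup G) : Set G) := by
    intro z hz hz1
    obtain ⟨hzp, hzc⟩ := (hiff z).1 hz
    have hQle : (Q : Subgroup G) ≤ normalizer (Subgroup.zpowers z : Set G) := fun w hw =>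
      S.centralizer_le_normalizer_zpowers z (mem_centralizer_singleton_iff.2 ((mem_centralizer_iff.1 hzc) w hw))
    have hPle : (P : Subgroup G) ≤ normalizer (Subgroup.zpowers z : Set G) :=
      (S.sylow_le_centralizer P.2 (hP₀P hz)).trans (S.centralizer_le_normalizer_zpowers z)
    rcases S.dichotomy (S.normalizer_zpowers_ne_top hz1) hQle P hPle with h | h
    · exact (S.y_not_mem (fun w hw => h (hQle hw)) hyPm).elim
    · exact h
  have hz₀P₀ : z₀ ∈ P₀ := (hiff z₀).2 ⟨hz₀, hc₀⟩
  have K0 : ∀ s ∈ (Q : Subgroup G), s ≠ 1 → ∀ z, PE p z → Commute z s → z ∈ P₀ := by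
    intro s hs hs1 z hz hzs
    have h1 := S.comm_cent hs hs1 hz hzs hz₀ ((mem_centralizer_iff.1 hc₀) s hs).symm
    exact (hiff z).2 ⟨hz, S.fix_centralizes hz (key z₀ hz₀P₀ hne
      (S.centralizer_le_normalizer_zpowers z₀ (mem_centralizer_singleton_iff.2 h1))) hs hs1 hzs.eq⟩
  have noP0 : ∀ z ∈ P₀, z ≠ 1 → ∀ t, orderOf t = 2 → t * z * t⁻¹ = z⁻¹ → False := by
    intro z hz hz1 t ht hinv
    have htN := key z hz hz1 (S.inverts_mem_normalizer hinv)
    have htQ := mem_sylow_of_normalizes Q (⟨1, by rw [ht, pow_one]⟩ : PE 2 t) htN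
    refine hz1 (S.odd_eq_one ((hiff z).1 hz).1 ?_)
    rw [← hinv, (mem_centralizer_iff.1 ((hiff z).1 hz).2) t htQ, mul_inv_cancel_right]
  refine S.no_inverted_contra fun t z ht hz hinv => ?_
  by_contra hz1
  by_cases hodd : 2 ∣ Nat.card (centralizer ({z} : Set G))
  · obtain ⟨w, hw⟩ := exists_prime_orderOf_dvd_card' 2 hodd
    obtain ⟨g, hg, hg1⟩ := S.exists_conj_Q (t := (w : G)) (by rw [Subgroup.orderOf_coe, hw])
    refine noP0 _ (K0 _ hg hg1 _ (hz.conj g)
      (S.conj_commute (mem_centralizer_singleton_iff.1 w.2).symm)) (fun e => hz1 (conj_eq_one_iff.1 e))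
      (g * t * g⁻¹) ((S.conj_orderOf g t).trans ht) ?_
    rw [show g * t * g⁻¹ * (g * z * g⁻¹) * (g * t * g⁻¹)⁻¹ = g * (t * z * t⁻¹) * g⁻¹ by group, hinv]
    group
  obtain ⟨P', htP', -, -⟩ := S.odd_centralizer ht hz hz1 hinv hodd
  obtain ⟨g, hg⟩ := MulAction.exists_smul_eq G P' P
  set t' := g * t * g⁻¹ with ht'
  have ht'2 : orderOf t' = 2 := (S.conj_orderOf g t).trans ht
  have ht'N : t' ∈ normalizer ((P : Subgroup G) : Set G) := mem_normalizer_of_maps fun w hw => by
    rw [← hg, mem_smul_sylow] at hw ⊢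
    rw [ht', show g⁻¹ * (g * t * g⁻¹ * w * (g * t * g⁻¹)⁻¹) * g = t * (g⁻¹ * w * g) * t⁻¹ by group]
    exact ((mem_normalizer_iff.1 htP') _).1 hw
  by_cases hfix : ∃ z ∈ (P : Subgroup G), z ≠ 1 ∧ Commute z t'
  · obtain ⟨z, hzP, hz1, hzt⟩ := hfix
    obtain ⟨b, hb, hb1⟩ := S.exists_conj_Q ht'2
    have hz'0 : b * z * b⁻¹ ∈ P₀ := K0 _ hb hb1 _ ((PE.of_mem P.2 hzP).conj b) (S.conj_commute hzt)
    have hz'1 : b * z * b⁻¹ ≠ 1 := fun e => hz1 (conj_eq_one_iff.1 e)
    have hall : ∀ w ∈ (P : Subgroup G), b * w * b⁻¹ ∈ P₀ := by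
      intro w hw
      have hwN : b * w * b⁻¹ ∈ normalizer ((Q : Subgroup G) : Set G) :=
        key _ hz'0 hz'1 (S.centralizer_le_normalizer_zpowers _ (mem_centralizer_singleton_iff.2
          (S.conj_commute (S.commP P.2 hw hzP))))
      refine K0 _ hb hb1 _ ((PE.of_mem P.2 hw).conj b) (S.conj_commute ?_)
      have h1 : w * t' * w⁻¹ * t'⁻¹ ∈ (P : Subgroup G) := by
        rw [show w * t' * w⁻¹ * t'⁻¹ = w * (t' * w⁻¹ * t'⁻¹) by group]
        exact mul_mem hw (((mem_normalizer_iff.1 ht'N) _).1 (inv_mem hw))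
      have h2 : b * (w * t' * w⁻¹ * t'⁻¹) * b⁻¹ ∈ (Q : Subgroup G) := by
        rw [show b * (w * t' * w⁻¹ * t'⁻¹) * b⁻¹ =
          (b * w * b⁻¹) * (b * t' * b⁻¹) * (b * w * b⁻¹)⁻¹ * (b * t' * b⁻¹)⁻¹ by group]
        exact mul_mem (((mem_normalizer_iff.1 hwN) _).1 hb) (inv_mem hb)
      have h3 := conj_eq_one_iff.1 (S.eq_one_of_both ((PE.of_mem P.2 h1).conj b) h2)
      exact mul_inv_eq_iff_eq_mul.1 (mul_inv_eq_one.1 h3)
    have heq : P₀ = (P : Subgroup G) := by
      refine Subgroup.eq_of_le_of_card_ge hP₀P (Nat.le_of_dvd Nat.card_pos ?_)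
      rw [← Subgroup.card_map_of_injective (K := (P : Subgroup G)) (show Function.Injective (MulAut.conj b).toMonoidHom from (MulAut.conj b).injective)]
      refine Subgroup.card_dvd_of_le ?_
      rintro _ ⟨w, hw, rfl⟩
      exact hall w hw
    exact S.y_not_central (heq ▸ hyPm : y ∈ P₀).2
  · push Not at hfix
    have hz₀P := hP₀P hz₀P₀
    have h2 : t' * t' = 1 := by rw [← pow_two, ← ht'2, pow_orderOf_eq_one]
    have hw : t' * z₀ * t'⁻¹ ∈ (P : Subgroup G) := ((mem_normalizer_iff.1 ht'N) _).1 hz₀P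
    by_cases hm : z₀ * (t' * z₀ * t'⁻¹) = 1
    · exact noP0 _ hz₀P₀ hne t' ht'2 (eq_inv_of_mul_eq_one_right hm)
    · refine hfix _ (mul_mem hz₀P hw) hm ?_
      have e1 : t' * (z₀ * (t' * z₀ * t'⁻¹)) * t'⁻¹ = (t' * z₀ * t'⁻¹) * z₀ := by
        rw [show t' * (z₀ * (t' * z₀ * t'⁻¹)) * t'⁻¹ =
          (t' * z₀ * t'⁻¹) * ((t' * t') * z₀ * (t' * t')⁻¹) by group, h2, one_mul, inv_one, mul_one]
      rw [← S.commP P.2 hz₀P hw] at e1
      exact (mul_inv_eq_iff_eq_mul.1 e1).symm

theorem inverts_all {P : Sylow p G} {t : G} (ht : orderOf t = 2)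
    (htN : t ∈ normalizer ((P : Subgroup G) : Set G))
    (h : ∀ z ∈ (P : Subgroup G), Commute z t → z = 1) :
    ∀ x ∈ (P : Subgroup G), t * x * t⁻¹ = x⁻¹ := by
  intro x hx
  have h2 : t * t = 1 := by rw [← pow_two, ← ht, pow_orderOf_eq_one]
  have hw : t * x * t⁻¹ ∈ (P : Subgroup G) := ((mem_normalizer_iff.1 htN) _).1 hx
  refine eq_inv_of_mul_eq_one_right (h _ (mul_mem hx hw) ?_)
  have e1 : t * (x * (t * x * t⁻¹)) * t⁻¹ = (t * x * t⁻¹) * x := by
    rw [show t * (x * (t * x * t⁻¹)) * t⁻¹ =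
      (t * x * t⁻¹) * ((t * t) * x * (t * t)⁻¹) by group, h2, one_mul, inv_one, mul_one]
  rw [← S.commP P.2 hx hw] at e1
  exact (mul_inv_eq_iff_eq_mul.1 e1).symm

theorem conj_card_involutions {u : G} (hu : u ∈ (Q : Subgroup G)) (hu1 : u ≠ 1) :
    Nat.card {v : G // orderOf v = 2} * Nat.card (centralizer ({u} : Set G)) = Nat.card G ∧
    ∀ v, orderOf v = 2 → ∃ g : G, g * u * g⁻¹ = v := by
  have hconj : ∀ v, orderOf v = 2 → ∃ g : G, g * u * g⁻¹ = v := by
    intro v hv
    obtain ⟨b, hb, hb1⟩ := S.exists_conj_Q hv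
    obtain ⟨i, hi⟩ := S.trans u hu hu1 _ hb hb1
    exact ⟨b⁻¹ * y ^ i, by
      rw [show b⁻¹ * y ^ i * u * (b⁻¹ * y ^ i)⁻¹ = b⁻¹ * (y ^ i * u * (y ^ i)⁻¹) * b by group, hi]
      group⟩
  refine ⟨?_, hconj⟩
  classical
  set K := centralizer ({u} : Set G)
  have hu2 := S.orderOf_mem hu hu1
  let f : G ⧸ K → {v : G // orderOf v = 2} := Quotient.lift
    (fun g => ⟨g * u * g⁻¹, (S.conj_orderOf g u).trans hu2⟩) (by
      intro a b hab
      replace hab := QuotientGroup.leftRel_apply.1 hab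
      refine Subtype.ext ?_
      have h := mem_centralizer_singleton_iff.1 hab
      show a * u * a⁻¹ = b * u * b⁻¹
      calc a * u * a⁻¹ = a * (u * (a⁻¹ * b)) * b⁻¹ := by group
        _ = a * ((a⁻¹ * b) * u) * b⁻¹ := by rw [h]
        _ = b * u * b⁻¹ := by group)
  have hf : Function.Bijective f := by
    refine ⟨?_, fun v => ?_⟩
    · intro a b hab
      induction a using Quotient.inductionOn with
      | h a =>
        induction b using Quotient.inductionOn with
        | h b =>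
          refine QuotientGroup.eq.2 (mem_centralizer_singleton_iff.2 ?_)
          have h : a * u * a⁻¹ = b * u * b⁻¹ := congrArg Subtype.val hab
          calc a⁻¹ * b * u = a⁻¹ * (b * u * b⁻¹) * b := by group
            _ = a⁻¹ * (a * u * a⁻¹) * b := by rw [h]
            _ = u * (a⁻¹ * b) := by group
    · obtain ⟨g, hg⟩ := hconj v v.2
      exact ⟨QuotientGroup.mk g, Subtype.ext hg⟩
  rw [← Nat.card_eq_of_bijective f hf, ← Subgroup.index_eq_card, Subgroup.index_mul_card]

/-- some involution of `Q` is centralized by a nontrivial `p`-element -/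
theorem exists_cent :
    ∃ s ∈ (Q : Subgroup G), s ≠ 1 ∧ ∃ z, PE p z ∧ z ≠ 1 ∧ Commute z s := by
  classical
  by_contra hcon
  push Not at hcon
  haveI := Fintype.ofFinite G
  have hA : ∀ v : G, orderOf v = 2 → ∀ z : G, PE p z → Commute z v → z = 1 := by
    intro v hv z hz hzv
    obtain ⟨g, hg, hg1⟩ := S.exists_conj_Q hv
    by_contra h1
    exact hcon _ hg hg1 _ (hz.conj g) (fun e => h1 (conj_eq_one_iff.1 e)) (S.conj_commute hzv)
  have hoddC : ∀ z : G, PE p z → z ≠ 1 → ¬ 2 ∣ Nat.card (centralizer ({z} : Set G)) := by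
    intro z hz hz1 h
    obtain ⟨w, hw⟩ := exists_prime_orderOf_dvd_card' 2 h
    exact hz1 (hA w (by rw [Subgroup.orderOf_coe, hw]) z hz (mem_centralizer_singleton_iff.1 w.2).symm)
  obtain ⟨t, htQ, ht1⟩ := S.exists_one
  have ht := S.orderOf_mem htQ ht1
  have ht' : t * t = 1 := S.exp t htQ
  obtain ⟨O, -, hO, -, hOle, hcard⟩ := S.cent_structure htQ ht1
  have hObot : O = ⊥ := (Subgroup.eq_bot_iff_forall _).2 fun z hz =>
    hA t ht z (PE.of_mem hO hz) (mem_centralizer_singleton_iff.1 (hOle hz))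
  rw [hObot, Subgroup.card_bot, one_mul] at hcard
  have hCQ : centralizer ({t} : Set G) = (Q : Subgroup G) :=
    (Subgroup.eq_of_le_of_card_ge (fun x hx => mem_centralizer_singleton_iff.2 (S.commQ hx htQ))
      hcard.le).symm
  obtain ⟨hn, hconj⟩ := S.conj_card_involutions htQ ht1
  rw [hcard, S.cardQ] at hn
  set n := Nat.card {v : G // orderOf v = 2} with hndef
  have hpn : p ∣ n := by
    refine (Nat.Coprime.dvd_of_dvd_mul_right ?_ (hn ▸ S.hpG))
    exact hp.out.coprime_iff_not_dvd.2 fun h => hp.out.one_lt.ne'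
      (Nat.dvd_one.1 ((Nat.dvd_add_right dvd_rfl).1 h))
  -- the invariant Sylow subgroups
  set K : Finset (Sylow p G) :=
    Finset.univ.filter (fun P => t ∈ normalizer ((P : Subgroup G) : Set G)) with hK
  have hinvK : ∀ P ∈ K, ∀ x ∈ (P : Subgroup G), t * x * t⁻¹ = x⁻¹ := fun P hP =>
    S.inverts_all ht (Finset.mem_filter.1 hP).2 fun z hz hzt => hA t ht z (PE.of_mem P.2 hz) hzt
  have hCx : ∀ P ∈ K, ∀ x ∈ (P : Subgroup G), x ≠ 1 →
      (P : Subgroup G) = centralizer ({x} : Set G) := by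
    intro P hP x hx hx1
    obtain ⟨P', -, hP', hxP'⟩ :=
      S.odd_centralizer ht (PE.of_mem P.2 hx) hx1 (hinvK P hP x hx) (hoddC x (PE.of_mem P.2 hx) hx1)
    have h1 : (P : Subgroup G) ≤ (P' : Subgroup G) := hP' ▸ S.sylow_le_centralizer P.2 hx
    rw [← hP', ← P.3 P'.2 h1]
  set D := K.biUnion (fun P => (Finset.univ.filter (fun x => x ∈ (P : Subgroup G))).erase 1) with hD
  have hDcard : D.card = ∑ P ∈ K, (Nat.card (P : Subgroup G) - 1) := by
    rw [hD, Finset.card_biUnion]
    · refine Finset.sum_congr rfl fun P _ => ?_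
      rw [Finset.card_erase_of_mem (by simp [one_mem]), ← Fintype.card_subtype,
        ← Nat.card_eq_fintype_card]
    · intro P hP P' hP' hne
      rw [Function.onFun, Finset.disjoint_left]
      intro x hx hx'
      simp only [Finset.mem_erase, Finset.mem_filter, Finset.mem_univ, true_and] at hx hx'
      exact hne (Sylow.ext ((hCx P hP x hx.2 hx.1).trans (hCx P' hP' x hx'.2 hx.1).symm))
  set I := Finset.univ.filter (fun v : G => orderOf v = 2) with hI
  have hIn : I.card = n := by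
    rw [hI, ← Fintype.card_subtype, hndef, Nat.card_eq_fintype_card]
  have hsplit : I = (Finset.univ.filter (fun v => v ∈ (Q : Subgroup G))).erase 1 ∪
      D.image (· * t) := by
    ext v
    simp only [hI, Finset.mem_filter, Finset.mem_univ, true_and, Finset.mem_union, Finset.mem_erase,
      Finset.mem_image]
    constructor
    · intro hv
      by_cases hc : Commute v t
      · refine Or.inl ⟨fun e => by rw [e, orderOf_one] at hv; omega, ?_⟩
        rw [← hCQ]; exact mem_centralizer_singleton_iff.2 hc.eq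
      right
      refine ⟨v * t, ?_, by rw [mul_assoc, ht', mul_one]⟩
      obtain ⟨a, j, hij⟩ := S.product_pow hv ht
      set x := v * t with hx
      have hv' : v * v = 1 := by rw [← pow_two, ← hv, pow_orderOf_eq_one]
      have h0 : t * x * t⁻¹ = x⁻¹ := by
        rw [hx, mul_inv_rev, inv_eq_of_mul_eq_one_right hv', inv_eq_of_mul_eq_one_right ht',
          ← mul_assoc, mul_assoc (t * v), ht', mul_one]
      have hzPE : PE p (x ^ 2 ^ a) := ⟨j, by
        rw [orderOf_pow_of_dvd (by positivity) (hij ▸ dvd_mul_right _ _), hij,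
          Nat.mul_div_cancel_left _ (by positivity)]⟩
      have hz1 : x ^ 2 ^ a ≠ 1 := fun e => by
        obtain ⟨b, -, hb⟩ := (Nat.dvd_prime_pow Nat.prime_two).1 (orderOf_dvd_of_pow_eq_one e)
        have h2 := S.two_part_sq hb
        refine hc ?_
        show v * t = t * v
        calc v * t = x := rfl
          _ = x⁻¹ := (inv_eq_of_mul_eq_one_right h2).symm
          _ = t * v := by
            rw [hx, mul_inv_rev, inv_eq_of_mul_eq_one_right hv', inv_eq_of_mul_eq_one_right ht']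
      obtain ⟨P, htP, hPC, hzP⟩ := S.odd_centralizer ht hzPE hz1
        (by rw [← MulAut.conj_apply, map_pow, MulAut.conj_apply, h0, inv_pow]) (hoddC _ hzPE hz1)
      have hxP : x ∈ (P : Subgroup G) := hPC ▸ mem_centralizer_singleton_iff.2 (Commute.self_pow x _).eq
      rw [hD, Finset.mem_biUnion]
      refine ⟨P, Finset.mem_filter.2 ⟨Finset.mem_univ _, htP⟩, ?_⟩
      simp only [Finset.mem_erase, Finset.mem_filter, Finset.mem_univ, true_and]
      exact ⟨fun e => hz1 (by rw [e, one_pow]), hxP⟩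
    · rintro (⟨h1, h2⟩ | ⟨x, hx, rfl⟩)
      · exact S.orderOf_mem h2 h1
      · rw [hD, Finset.mem_biUnion] at hx
        obtain ⟨P, hP, hx⟩ := hx
        simp only [Finset.mem_erase, Finset.mem_filter, Finset.mem_univ, true_and] at hx
        have hi := hinvK P hP x hx.2
        refine orderOf_eq_prime ?_ fun e => ?_
        · rw [pow_two]
          calc x * t * (x * t) = x * (t * x * t⁻¹) * (t * t) := by group
            _ = 1 := by rw [hi, ht', mul_inv_cancel, one_mul]
        · have hxQ : x ∈ (Q : Subgroup G) := by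
            rw [eq_inv_of_mul_eq_one_left e]; exact inv_mem htQ
          exact hx.1 (S.eq_one_of_both (PE.of_mem P.2 hx.2) hxQ)
  have hdisj : Disjoint ((Finset.univ.filter (fun v => v ∈ (Q : Subgroup G))).erase 1)
      (D.image (· * t)) := by
    rw [Finset.disjoint_left]
    intro v hv hv'
    obtain ⟨x, hx, rfl⟩ := Finset.mem_image.1 hv'
    simp only [Finset.mem_erase, Finset.mem_filter, Finset.mem_univ, true_and] at hv
    rw [hD, Finset.mem_biUnion] at hx
    obtain ⟨P, -, hx⟩ := hx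
    simp only [Finset.mem_erase, Finset.mem_filter, Finset.mem_univ, true_and] at hx
    refine hx.1 (S.eq_one_of_both (PE.of_mem P.2 hx.2) ?_)
    have := mul_mem hv.2 (inv_mem htQ)
    rwa [mul_inv_cancel_right] at this
  have hcount : n = p + ∑ P ∈ K, (Nat.card (P : Subgroup G) - 1) := by
    rw [← hIn, hsplit, Finset.card_union_of_disjoint hdisj,
      Finset.card_image_of_injective _ (mul_left_injective t), hDcard,
      Finset.card_erase_of_mem (by simp [one_mem]), ← Fintype.card_subtype, ← Nat.card_eq_fintype_card]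
    have h := S.cardQ
    congr 1
    change Nat.card (Q : Subgroup G) - 1 = p
    omega
  have hKne : K.Nonempty := by
    by_contra h
    have hK0 := Finset.not_nonempty_iff_eq_empty.1 h
    rw [hK0, Finset.sum_empty, add_zero] at hcount
    refine S.no_inverted_contra fun s z hs hz hinv => ?_
    by_contra hz1
    obtain ⟨P, hsP, -, -⟩ := S.odd_centralizer hs hz hz1 hinv (hoddC z hz hz1)
    obtain ⟨g, hg⟩ := hconj s hs
    refine (Finset.eq_empty_iff_forall_notMem.1 hK0) (g⁻¹ • P) (Finset.mem_filter.2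
      ⟨Finset.mem_univ _, mem_normalizer_of_maps fun w hw => ?_⟩)
    rw [mem_smul_sylow, inv_inv] at hw ⊢
    rw [show g * (t * w * t⁻¹) * g⁻¹ = (g * t * g⁻¹) * (g * w * g⁻¹) * (g * t * g⁻¹)⁻¹ by group, hg]
    exact ((mem_normalizer_iff.1 hsP) _).1 hw
  obtain ⟨P₁, hP₁⟩ := hKne
  have hsum : ∑ P ∈ K, (Nat.card (P : Subgroup G) - 1) =
      K.card * (Nat.card (P₁ : Subgroup G) - 1) := by
    rw [Finset.sum_const_nat fun P _ => ?_]
    rw [P.card_eq_multiplicity, P₁.card_eq_multiplicity]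
  have h2K : 2 * K.card = p + 1 := by
    have horb : ∀ P : Sylow p G, P ∈ K ↔ P ∈ MulAction.orbit (Q : Subgroup G) P₁ := by
      intro P
      constructor
      · intro hP
        obtain ⟨g, hg⟩ := MulAction.exists_smul_eq G P₁ P
        set b := g * t * g⁻¹ with hb
        have hb2 : orderOf b = 2 := (S.conj_orderOf g t).trans ht
        have hbN : b ∈ normalizer ((P : Subgroup G) : Set G) := mem_normalizer_of_maps fun w hw => by
          rw [← hg, mem_smul_sylow] at hw ⊢
          rw [hb, show g⁻¹ * (g * t * g⁻¹ * w * (g * t * g⁻¹)⁻¹) * g = t * (g⁻¹ * w * g) * t⁻¹ by group]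
          exact ((mem_normalizer_iff.1 (Finset.mem_filter.1 hP₁).2) _).1 hw
        have hbinv := S.inverts_all hb2 hbN fun z hz hzb => hA b hb2 z (PE.of_mem P.2 hz) hzb
        have htinv := hinvK P hP
        obtain ⟨x, hx, hx1⟩ : ∃ x ∈ (P : Subgroup G), x ≠ 1 := by
          refine (Subgroup.bot_or_exists_ne_one (P : Subgroup G)).resolve_left fun e => ?_
          have := P.dvd_card_of_dvd_card S.hpG
          rw [e, Subgroup.card_bot] at this
          exact hp.out.one_lt.ne' (Nat.dvd_one.1 this)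
        have hc : t * b⁻¹ ∈ (P : Subgroup G) := by
          rw [hCx P hP x hx hx1, mem_centralizer_singleton_iff]
          have e1 : b⁻¹ * x * b = x⁻¹ := by
            have hb' : b⁻¹ = b := inv_eq_of_mul_eq_one_right (by rw [← pow_two, ← hb2, pow_orderOf_eq_one])
            have h := hbinv x hx
            rw [hb'] at h
            rw [hb', h]
          have e2 : t * b⁻¹ * x * (t * b⁻¹)⁻¹ = x := by
            rw [show t * b⁻¹ * x * (t * b⁻¹)⁻¹ = t * (b⁻¹ * x * b) * t⁻¹ by group, e1,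
              htinv _ (inv_mem hx), inv_inv]
          exact mul_inv_eq_iff_eq_mul.1 e2
        obtain ⟨c, hcP, htc⟩ : ∃ c ∈ (P : Subgroup G), t = c * b :=
          ⟨t * b⁻¹, hc, (inv_mul_cancel_right t b).symm⟩
        obtain ⟨j, hj⟩ := (PE.of_mem P.2 hcP : PE p c)
        obtain ⟨m, hm⟩ := (hp.out.odd_of_ne_two S.hp2).pow (n := j)
        set d := c ^ (m + 1) with hd
        have hdd : d * d = c := by
          rw [hd, ← pow_add, show m + 1 + (m + 1) = p ^ j + 1 by omega, pow_succ, ← hj,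
            pow_orderOf_eq_one, one_mul]
        have hdP : d ∈ (P : Subgroup G) := pow_mem hcP _
        have hdt : d * b * d⁻¹ = t := by
          rw [htc, ← hdd, show d * b * d⁻¹ = d * (b * d⁻¹ * b⁻¹) * b by group,
            hbinv _ (inv_mem hdP), inv_inv]
        refine ⟨⟨d * g, ?_⟩, ?_⟩
        · rw [← hCQ, mem_centralizer_singleton_iff]
          have e : d * g * t * (d * g)⁻¹ = t := by
            rw [show d * g * t * (d * g)⁻¹ = d * (g * t * g⁻¹) * d⁻¹ by group, ← hb, hdt]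
          exact mul_inv_eq_iff_eq_mul.1 e
        · show (d * g) • P₁ = P
          rw [mul_smul, hg, Sylow.smul_eq_iff_mem_normalizer]
          exact le_normalizer hdP
      · rintro ⟨⟨w, hw⟩, rfl⟩
        refine Finset.mem_filter.2 ⟨Finset.mem_univ _, mem_normalizer_of_maps fun x hx => ?_⟩
        change x ∈ ((w • P₁ : Sylow p G) : Subgroup G) at hx
        change t * x * t⁻¹ ∈ ((w • P₁ : Sylow p G) : Subgroup G)
        rw [mem_smul_sylow] at hx ⊢
        have e : w⁻¹ * (t * x * t⁻¹) * w = t * (w⁻¹ * x * w) * t⁻¹ := by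
          have hc : Commute t w := S.commQ htQ hw
          calc w⁻¹ * (t * x * t⁻¹) * w = (w⁻¹ * t) * x * (t⁻¹ * w) := by group
            _ = (t * w⁻¹) * x * (w * t⁻¹) := by rw [hc.inv_right.eq.symm, hc.inv_left.eq]
            _ = t * (w⁻¹ * x * w) * t⁻¹ := by group
        rw [e]
        exact ((mem_normalizer_iff.1 (Finset.mem_filter.1 hP₁).2) _).1 hx
    have h1 : K.card = Nat.card (MulAction.orbit (Q : Subgroup G) P₁) := by
      rw [Nat.card_eq_card_toFinset]
      refine congrArg Finset.card (Finset.ext fun P => ?_)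
      rw [Set.mem_toFinset]; exact horb P
    have h2 : Nat.card (MulAction.stabilizer (Q : Subgroup G) P₁) = 2 := by
      refine (Subgroup.card_map_of_injective (Q : Subgroup G).subtype_injective).symm.trans
        (Eq.trans ?_ ((Nat.card_zpowers t).trans ht))
      congr 2
      refine le_antisymm ?_ ?_
      · rintro _ ⟨⟨s, hs⟩, hst, rfl⟩
        have hsN : s ∈ normalizer ((P₁ : Subgroup G) : Set G) :=
          Sylow.smul_eq_iff_mem_normalizer.1 hst
        show s ∈ Subgroup.zpowers t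
        rcases eq_or_ne s 1 with rfl | hs1
        · exact one_mem _
        by_cases hst' : s * t = 1
        · rw [eq_inv_of_mul_eq_one_left hst']; exact inv_mem (Subgroup.mem_zpowers t)
        exfalso
        have hs2 := S.orderOf_mem hs hs1
        have hsinv := S.inverts_all hs2 hsN fun z hz hzs => hA s hs2 z (PE.of_mem P₁.2 hz) hzs
        obtain ⟨x, hx, hx1⟩ : ∃ x ∈ (P₁ : Subgroup G), x ≠ 1 := by
          refine (Subgroup.bot_or_exists_ne_one (P₁ : Subgroup G)).resolve_left fun e => ?_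
          have := P₁.dvd_card_of_dvd_card S.hpG
          rw [e, Subgroup.card_bot] at this
          exact hp.out.one_lt.ne' (Nat.dvd_one.1 this)
        refine hx1 (hA (s * t) (S.orderOf_mem (mul_mem hs htQ) hst') x (PE.of_mem P₁.2 hx) ?_)
        have e : s * t * x * (s * t)⁻¹ = x := by
          rw [show s * t * x * (s * t)⁻¹ = s * (t * x * t⁻¹) * s⁻¹ by group, hinvK P₁ hP₁ x hx,
            hsinv _ (inv_mem hx), inv_inv]
        exact (mul_inv_eq_iff_eq_mul.1 e).symm
      · refine Subgroup.zpowers_le.2 ?_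
        exact ⟨⟨t, htQ⟩, Sylow.smul_eq_iff_mem_normalizer.2 (Finset.mem_filter.1 hP₁).2, rfl⟩
    have h3 := MulAction.card_orbit_mul_card_stabilizer_eq_card_group (Q : Subgroup G) P₁
    simp only [← Nat.card_eq_fintype_card] at h3
    rw [← h1, h2, S.cardQ] at h3
    omega
  obtain ⟨d, hd⟩ := P₁.dvd_card_of_dvd_card S.hpG
  have hd1 : 1 ≤ p * d := hd ▸ Nat.card_pos
  rw [hsum, hd] at hcount
  obtain ⟨c, hc⟩ := hpn
  have h := congrArg (fun m => ((2 * m : ℕ) : ℤ)) hcount
  push_cast [Nat.cast_sub hd1] at h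
  have hK' : (2 * K.card : ℤ) = p + 1 := by exact_mod_cast h2K
  have hc' : (n : ℤ) = p * c := by exact_mod_cast hc
  have hdiv : (p : ℤ) ∣ 1 := ⟨2 - 2 * c + ((p : ℤ) + 1) * d - 1,
    by linear_combination h - (2 : ℤ) * hc' + ((p : ℤ) * d - 1) * hK'⟩
  exact hp.out.one_lt.ne' (by exact_mod_cast Int.eq_one_of_dvd_one (by positivity) hdiv)

end Sp

end Cfsg.Lib.Mixed
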