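import Cfsg.Agent.MixedPrimes.Cases
import Cfsg.Agent.S4479
import Cfsg.Agent.S0948
import Cfsg.Agent.Blocks.Feit3
import Cfsg.Agent.Chars.Construct

/-!
The remaining four-group configuration contradicts the order formula for a Klein four Sylow 2-subgroup,
which finishes the induction.
-/

set_option autoImplicit false
set_option linter.unusedSectionVars false

namespace Cfsg.Lib.Mixed

open Subgroup
open Cfsg.Lib.Coprime

variable {G : Type*} [Group G] [Finite G]

namespace Sp

variable {p : ℕ} [hp : Fact p.Prime] {Q : Sylow 2 G} {y : G} (S : Sp G p Q y)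
include S

theorem exists_four : ∃ (s₀ : G) (P : Sylow p G), s₀ ∈ (Q : Subgroup G) ∧ s₀ ≠ 1 ∧
    Nat.card (Q : Subgroup G) = 4 ∧
    ∀ z, z ∈ (P : Subgroup G) ↔ PE p z ∧ Commute z s₀ := by
  obtain ⟨s, hs, hs1, z, hz, hz1, hzs⟩ := S.exists_cent
  obtain ⟨O, hOn, hO, hmem, hOle, -⟩ := S.cent_structure hs hs1
  have hzO : z ∈ O := hmem z hz (mem_centralizer_singleton_iff.2 hzs)
  have hO1 : O ≠ ⊥ := fun e => hz1 (Subgroup.mem_bot.1 (e ▸ hzO))
  have hbad : ∀ {u : G}, u ∈ (Q : Subgroup G) → u ≠ 1 → ∀ {w}, PE p w → w ≠ 1 → Commute w u →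
      w ∈ normalizer ((Q : Subgroup G) : Set G) → False := fun hu hu1 w hw hw1 hwu hwN =>
    hw1 (S.centralizer_Q_trivial hw (S.fix_centralizes hw hwN hu hu1 hwu.eq))
  have hNO : ∀ {O' : Subgroup G}, IsPGroup p O' → ∀ {R : Sylow p G}, O' ≤ (R : Subgroup G) →
      (R : Subgroup G) ≤ normalizer (O' : Set G) := fun hO' R hR w hw =>
    mem_normalizer_of_maps fun x hx => by rwa [S.commP R.2 hw (hR hx), mul_inv_cancel_right]
  obtain ⟨P, hP⟩ := hO.exists_le_sylow
  have hQO : (Q : Subgroup G) ≤ normalizer (O : Set G) := fun w hw =>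
    mem_normalizer_of_maps (hOn w (mem_centralizer_singleton_iff.2 (S.commQ hw hs)))
  have hQP : (Q : Subgroup G) ≤ normalizer ((P : Subgroup G) : Set G) := by
    rcases S.dichotomy (S.normalizer_ne_top hO1 hO) hQO P (hNO hO hP) with h | h
    · exact hQO.trans h
    · exact (hbad hs hs1 hz hz1 hzs (h (le_normalizer hzO))).elim
  have U : ∀ (R : Sylow p G), (Q : Subgroup G) ≤ normalizer ((R : Subgroup G) : Set G) →
      ∀ u ∈ (Q : Subgroup G), u ≠ 1 → ∀ x ∈ (R : Subgroup G), x ≠ 1 → Commute x u →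
      ∀ w, PE p w → Commute w u → w ∈ (R : Subgroup G) := by
    intro R hQR u hu hu1 x hx hx1 hxu w hw hwu
    set X := (R : Subgroup G) ⊓ centralizer ({u} : Set G) with hX
    have hxX : x ∈ X := ⟨hx, mem_centralizer_singleton_iff.2 hxu⟩
    have hXp : IsPGroup p X := R.2.to_le inf_le_left
    have hQX : (Q : Subgroup G) ≤ normalizer (X : Set G) := fun v hv =>
      mem_normalizer_of_maps fun a ha => ⟨((mem_normalizer_iff.1 (hQR hv)) a).1 ha.1,
        (show v * a * v⁻¹ ∈ centralizer ({u} : Set G) from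
          (centralizer ({u} : Set G)).mul_mem
            ((centralizer ({u} : Set G)).mul_mem (mem_centralizer_singleton_iff.2 (S.commQ hv hu)) ha.2)
            ((centralizer ({u} : Set G)).inv_mem (mem_centralizer_singleton_iff.2 (S.commQ hv hu))))⟩
    rcases S.dichotomy (S.normalizer_ne_top (fun e => hx1 (Subgroup.mem_bot.1 (e ▸ hxX))) hXp) hQX R
      (hNO hXp inf_le_left) with h | h
    · refine mem_sylow_of_normalizes R hw (h (mem_normalizer_of_maps fun a ha => ?_))
      rwa [S.comm_cent hu hu1 hw hwu (PE.of_mem R.2 ha.1) (mem_centralizer_singleton_iff.1 ha.2),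
        mul_inv_cancel_right]
    · exact (hbad hu hu1 (PE.of_mem R.2 hx) hx1 hxu (h (le_normalizer hxX))).elim
  -- at most one involution of `Q` has fixed points on `P`
  have huniq : ∀ u ∈ (Q : Subgroup G), u ≠ 1 → ∀ v ∈ (Q : Subgroup G), v ≠ 1 →
      ∀ x ∈ (P : Subgroup G), x ≠ 1 → Commute x u → ∀ x' ∈ (P : Subgroup G), x' ≠ 1 →
      Commute x' v → u = v := by
    intro u hu hu1 v hv hv1 x hx hx1 hxu x' hx' hx'1 hx'v
    obtain ⟨i, hi⟩ := S.trans u hu hu1 v hv hv1
    set g := y ^ i with hg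
    set P' : Sylow p G := g • P with hP'
    have hgN : g ∈ normalizer ((Q : Subgroup G) : Set G) := pow_mem S.yN i
    have hQP' : (Q : Subgroup G) ≤ normalizer ((P' : Subgroup G) : Set G) := fun w hw =>
      mem_normalizer_of_maps fun a ha => by
        rw [hP', mem_smul_sylow] at ha ⊢
        have hw' : g⁻¹ * w * g ∈ (Q : Subgroup G) := by
          simpa using ((mem_normalizer_iff.1 (inv_mem hgN)) w).1 hw
        rw [show g⁻¹ * (w * a * w⁻¹) * g = (g⁻¹ * w * g) * (g⁻¹ * a * g) * (g⁻¹ * w * g)⁻¹ by group]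
        exact ((mem_normalizer_iff.1 (hQP hw')) _).1 ha
    have hxP' : g * x * g⁻¹ ∈ (P' : Subgroup G) := by
      rw [hP', mem_smul_sylow, show g⁻¹ * (g * x * g⁻¹) * g = x by group]; exact hx
    have hxv : Commute (g * x * g⁻¹) v := hi ▸ S.conj_commute hxu
    obtain ⟨Ov, hOvn, hOv, hOvm, hOvle, -⟩ := S.cent_structure hv hv1
    have hle : ∀ R : Sylow p G, (Q : Subgroup G) ≤ normalizer ((R : Subgroup G) : Set G) →
        ∀ a ∈ (R : Subgroup G), a ≠ 1 → Commute a v → Ov ≤ (R : Subgroup G) :=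
      fun R hR a ha ha1 hav w hw => U R hR v hv hv1 a ha ha1 hav w (PE.of_mem hOv hw)
        (mem_centralizer_singleton_iff.1 (hOvle hw))
    have h1 := hle P hQP x' hx' hx'1 hx'v
    have h2 := hle P' hQP' _ hxP' (fun e => hx1 (conj_eq_one_iff.1 e)) hxv
    have hx'O : x' ∈ Ov := hOvm x' (PE.of_mem P.2 hx') (mem_centralizer_singleton_iff.2 hx'v)
    have hQOv : (Q : Subgroup G) ≤ normalizer (Ov : Set G) := fun w hw =>
      mem_normalizer_of_maps (hOvn w (mem_centralizer_singleton_iff.2 (S.commQ hw hv)))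
    rcases S.dichotomy (S.normalizer_ne_top (fun e => hx'1 (Subgroup.mem_bot.1 (e ▸ hx'O))) hOv) hQOv P
      (hNO hOv h1) with h | h
    · have he : g • P = P := sylow_le_of_normalizer P P' ((hNO hOv h2).trans h)
      have hgP : g ∈ (P : Subgroup G) :=
        mem_sylow_of_normalizes P (PE.pow S.yP i) (Sylow.smul_eq_iff_mem_normalizer.1 he)
      have e1 : g * u * g⁻¹ * u⁻¹ ∈ (Q : Subgroup G) :=
        mul_mem (((mem_normalizer_iff.1 hgN) u).1 hu) (inv_mem hu)
      have e2 : g * (u * g⁻¹ * u⁻¹) ∈ (P : Subgroup G) :=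
        mul_mem hgP (((mem_normalizer_iff.1 (hQP hu)) _).1 (inv_mem hgP))
      have e3 := S.eq_one_of_both (PE.of_mem P.2 e2) (by simpa [mul_assoc] using e1)
      have e4 : g * u * g⁻¹ = u := mul_inv_eq_one.1 (by simpa [mul_assoc] using e3)
      rw [← hi, e4]
    · exact (hbad hv hv1 (PE.of_mem P.2 hx') hx'1 hx'v (h (le_normalizer hx'O))).elim
  have hzP : z ∈ (P : Subgroup G) := hP hzO
  haveI := S.isMulCommutativeQ
  have hncyc : ¬ IsCyclic (Q : Subgroup G) := fun h => by
    obtain ⟨g, hg⟩ := (isCyclic_iff_exists_zpowers_eq_top (α := (Q : Subgroup G))).1 h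
    have h1 : orderOf g = Nat.card (Q : Subgroup G) := by
      rw [← Nat.card_zpowers, hg, Subgroup.card_top]
    have h2 : orderOf g ≤ 2 := orderOf_le_of_pow_eq_one two_pos
      (Subtype.ext (by rw [pow_two]; exact S.exp g g.2))
    have := S.three_le
    rw [h1, S.cardQ] at h2; omega
  have hgen := centralizerJoin_eq hncyc hQP (by
    rw [S.cardQ]
    obtain ⟨k, hk⟩ := IsPGroup.iff_card.1 P.2
    rw [hk]
    exact Nat.Coprime.pow_right _ ((hp.out.coprime_iff_not_dvd.2 fun h =>
      hp.out.one_lt.ne' (Nat.dvd_one.1 ((Nat.dvd_add_right dvd_rfl).1 h))).symm))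
  have hPs : ∀ w ∈ (P : Subgroup G), Commute w s := by
    have h1 : centralizerJoin (Q : Subgroup G) (P : Subgroup G) ≤ centralizer ({s} : Set G) := by
      refine iSup₂_le fun a ha => ?_
      rintro w ⟨hwP, hwa⟩
      rcases eq_or_ne w 1 with rfl | hw1
      · exact one_mem _
      have e := huniq a ha.1 ha.2 s hs hs1 w hwP hw1 (mem_centralizer_singleton_iff.1 hwa) z hzP hz1 hzs
      rw [← e]; exact hwa
    intro w hw
    exact mem_centralizer_singleton_iff.1 (h1 (hgen.symm ▸ hw))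
  refine ⟨s, P, hs, hs1, ?_, fun w => ⟨fun h => ⟨PE.of_mem P.2 h, hPs w h⟩,
    fun h => U P hQP s hs hs1 z hzP hz1 hzs w h.1 h.2⟩⟩
  by_contra h4
  -- otherwise two further involutions invert `P`, and their product centralizes it
  have hinv : ∀ u ∈ (Q : Subgroup G), u ≠ 1 → u ≠ s →
      ∀ w ∈ (P : Subgroup G), u * w * u⁻¹ = w⁻¹ := fun u hu hu1 hus =>
    S.inverts_all (S.orderOf_mem hu hu1) (hQP hu) fun w hw hwu => by
      by_contra hw1
      exact hus (huniq u hu hu1 s hs hs1 w hw hw1 hwu z hzP hz1 hzs)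
  obtain ⟨a, b, ha, hb, ha1, has, hb1, hbs, hab, habs⟩ : ∃ a b, a ∈ (Q : Subgroup G) ∧
      b ∈ (Q : Subgroup G) ∧ a ≠ 1 ∧ a ≠ s ∧ b ≠ 1 ∧ b ≠ s ∧ a * b ≠ 1 ∧ a * b ≠ s := by
    classical
    haveI := Fintype.ofFinite G
    set F := Finset.univ.filter (fun v => v ∈ (Q : Subgroup G)) with hF
    have hFc : F.card = p + 1 := by
      rw [hF, ← Fintype.card_subtype, ← Nat.card_eq_fintype_card]; exact S.cardQ
    have hp5 : 5 ≤ p + 1 := by
      obtain ⟨k, hk⟩ := IsPGroup.iff_card.1 Q.2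
      have := S.cardQ
      have := S.three_le
      by_contra h
      have : p + 1 = 4 := by omega
      omega
    obtain ⟨a, ha⟩ : (F \ {1, s}).Nonempty := Finset.card_pos.1 (by
      have := Finset.le_card_sdiff ({1, s} : Finset G) F
      have := Finset.card_le_two (a := (1 : G)) (b := s)
      omega)
    obtain ⟨b, hb⟩ : (F \ {1, s, a, a * s}).Nonempty := Finset.card_pos.1 (by
      have := Finset.le_card_sdiff ({1, s, a, a * s} : Finset G) F
      have := Finset.card_le_four (a := (1 : G)) (b := s) (c := a) (d := a * s)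
      omega)
    simp only [hF, Finset.mem_sdiff, Finset.mem_filter, Finset.mem_univ, true_and, Finset.mem_insert,
      Finset.mem_singleton, not_or] at ha hb
    refine ⟨a, b, ha.1, hb.1, ha.2.1, ha.2.2, hb.2.1, hb.2.2.1, fun e => hb.2.2.2.1 ?_,
      fun e => hb.2.2.2.2 ?_⟩
    · rw [eq_inv_of_mul_eq_one_right e, S.inv_eq ha.1]
    · rw [← e, ← mul_assoc, S.exp a ha.1, one_mul]
  have e : a * b * z * (a * b)⁻¹ = z := by
    rw [show a * b * z * (a * b)⁻¹ = a * (b * z * b⁻¹) * a⁻¹ by group, hinv b hb hb1 hbs z hzP,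
      hinv a ha ha1 has _ (inv_mem hzP), inv_inv]
  exact habs (huniq (a * b) (mul_mem ha hb) hab s hs hs1 z hzP hz1
    (show Commute z (a * b) from (mul_inv_eq_iff_eq_mul.1 e).symm) z hzP hz1 hzs)

theorem contradiction_final : False := by
  classical
  haveI := Fintype.ofFinite G
  obtain ⟨s₀, P, hs, hs1, h4, hP⟩ := S.exists_four
  have ht := S.orderOf_mem hs hs1
  have ht' : s₀ * s₀ = 1 := S.exp s₀ hs
  set m := Nat.card (P : Subgroup G) with hm
  have hpm : p ∣ m := P.dvd_card_of_dvd_card S.hpG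
  have hm1 : 2 ≤ m := hp.out.two_le.trans (Nat.le_of_dvd Nat.card_pos hpm)
  obtain ⟨O, -, hO, hmem, hOle, hcard⟩ := S.cent_structure hs hs1
  have hOP : O = (P : Subgroup G) := le_antisymm
    (fun w hw => (hP w).2 ⟨PE.of_mem hO hw, mem_centralizer_singleton_iff.1 (hOle hw)⟩)
    (fun w hw => hmem w ((hP w).1 hw).1 (mem_centralizer_singleton_iff.2 ((hP w).1 hw).2))
  rw [hOP, h4, ← hm] at hcard
  obtain ⟨hn, hconj⟩ := S.conj_card_involutions hs hs1
  set n := Nat.card {v : G // orderOf v = 2} with hndef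
  rw [hcard] at hn
  -- an involution commuting with a given nontrivial `p`-element is unique
  have huniq : ∀ z : G, PE p z → z ≠ 1 → ∀ w w' : G, orderOf w = 2 → orderOf w' = 2 →
      Commute z w → Commute z w' → w = w' := by
    intro z hz hz1 w w' hw hw' hzw hzw'
    obtain ⟨g, hg⟩ := hconj w hw
    set z' := g⁻¹ * z * g with hz'
    set v := g⁻¹ * w' * g with hv
    have hz'v : Commute z' v := by
      simpa [hz', hv] using S.conj_commute (g := g⁻¹) hzw'
    have hz's : Commute z' s₀ := by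
      have h := S.conj_commute (g := g⁻¹) hzw
      rw [← hg, show g⁻¹ * (g * s₀ * g⁻¹) * g⁻¹⁻¹ = s₀ by group] at h
      simpa [hz'] using h
    have hz'p : PE p z' := by simpa [hz'] using hz.conj g⁻¹
    have hz'P : z' ∈ (P : Subgroup G) := (hP z').2 ⟨hz'p, hz's⟩
    have hz'1 : z' ≠ 1 := fun e => hz1 (by
      rw [show z = g * z' * g⁻¹ by rw [hz']; group, e, mul_one, mul_inv_cancel])
    have hv2 : orderOf v = 2 := by
      rw [hv, show g⁻¹ * w' * g = g⁻¹ * w' * g⁻¹⁻¹ by group, S.conj_orderOf]; exact hw'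
    suffices hvs : v = s₀ by
      rw [← hg, ← hvs, hv]; group
    by_contra hvs
    set C := centralizer ({z'} : Set G) with hC
    have hCt : C ≠ ⊤ := S.centralizer_ne_top hz'1
    have hsC : s₀ ∈ C := mem_centralizer_singleton_iff.2 hz's.eq.symm
    have hvC : v ∈ C := mem_centralizer_singleton_iff.2 hz'v.eq.symm
    have h2C : 2 ∣ Nat.card C := ht ▸ Subgroup.orderOf_dvd_natCard _ hsC
    have h4C : ¬ 4 ∣ Nat.card C := by
      intro h
      obtain ⟨K, hK⟩ := Sylow.exists_subgroup_card_pow_prime (G := C) 2 (n := 2) (by rw [Nat.card_eq_fintype_card] at h; simpa using h)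
      have hKc : Nat.card (K.map C.subtype) = 4 := by
        rw [Subgroup.card_map_of_injective C.subtype_injective, hK]; norm_num
      obtain ⟨R, hR⟩ := (IsPGroup.of_card (n := 2) (by rw [hKc]; norm_num) :
        IsPGroup 2 (K.map C.subtype)).exists_le_sylow
      have hRK : K.map C.subtype = (R : Subgroup G) := Subgroup.eq_of_le_of_card_ge hR (by
        rw [hKc, R.card_eq_multiplicity, ← h4, Q.card_eq_multiplicity])
      obtain ⟨b, hb⟩ := MulAction.exists_smul_eq G R Q
      refine hz'1 (conj_eq_one_iff.1 (S.centralizer_Q_trivial (hz'p.conj b) ?_))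
      rw [mem_centralizer_iff]
      intro a ha
      rw [← hb] at ha
      rw [show a = b * (b⁻¹ * a * b) * b⁻¹ by group]
      have haR := mem_smul_sylow.1 ha
      rw [← hRK] at haR
      exact (S.conj_commute (mem_centralizer_singleton_iff.1 (Subgroup.map_subtype_le K haR))).eq
    obtain ⟨i, j, hij⟩ := S.exists_card_eq hCt h2C
    have hi : i ≤ 1 := by
      by_contra hi
      exact h4C (hij ▸ Dvd.dvd.mul_right (pow_dvd_pow 2 (show 2 ≤ i by omega)) _)
    have hj : p ^ j ≤ m := by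
      refine Nat.le_of_dvd Nat.card_pos ?_
      rw [hm, P.card_eq_multiplicity]
      exact Nat.pow_dvd_pow _ ((hp.out.pow_dvd_iff_le_factorization Nat.card_pos.ne').1
        ((hij ▸ dvd_mul_left _ _ : p ^ j ∣ Nat.card C).trans (Subgroup.card_subgroup_dvd_card C)))
    set D := C ⊓ centralizer ({s₀} : Set G) with hD
    have hPD : (P : Subgroup G) ≤ D := le_inf (S.sylow_le_centralizer P.2 hz'P) fun w hw =>
      mem_centralizer_singleton_iff.2 ((hP w).1 hw).2
    have h2D : 2 ∣ Nat.card D :=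
      ht ▸ Subgroup.orderOf_dvd_natCard D (show s₀ ∈ D from ⟨hsC, mem_centralizer_singleton_iff.2 rfl⟩)
    have hDc : 2 * m ≤ Nat.card D := Nat.le_of_dvd Nat.card_pos
      (Nat.Coprime.mul_dvd_of_dvd_of_dvd (by
        obtain ⟨k, hk⟩ := IsPGroup.iff_card.1 P.2
        rw [hm, hk]
        exact Nat.Coprime.pow_right _ ((Nat.coprime_primes Nat.prime_two hp.out).2 (Ne.symm S.hp2)))
        h2D (Subgroup.card_dvd_of_le hPD))
    have hCle : Nat.card C ≤ 2 * m := by
      rw [hij]
      exact Nat.mul_le_mul ((Nat.pow_le_pow_right (by norm_num) hi).trans (by norm_num)) hj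
    have hDC : D = C := Subgroup.eq_of_le_of_card_ge inf_le_left (hCle.trans hDc)
    have hvcom : v * s₀ = s₀ * v :=
      mem_centralizer_singleton_iff.1 ((hDC.symm ▸ hvC : v ∈ D).2)
    have hV : Subgroup.zpowers v ≤ normalizer (Subgroup.zpowers s₀ : Set G) :=
      Subgroup.zpowers_le.2 (mem_normalizer_zpowers (Or.inl (by rw [hvcom, mul_inv_cancel_right])))
    have hVd : Subgroup.zpowers s₀ ⊓ Subgroup.zpowers v = ⊥ := by
      rw [Subgroup.eq_bot_iff_forall]
      rintro x ⟨hx1, hx2⟩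
      obtain ⟨k, rfl⟩ := Subgroup.mem_zpowers_iff.1 hx2
      rcases Int.even_or_odd k with ⟨l, rfl⟩ | ⟨l, rfl⟩
      · rw [← two_mul, zpow_mul, zpow_two, ← pow_two, ← hv2, pow_orderOf_eq_one, one_zpow]
      · exfalso
        rw [zpow_add, zpow_mul, zpow_two, ← pow_two, ← hv2, pow_orderOf_eq_one, one_zpow, one_mul,
          zpow_one] at hx1
        obtain ⟨l', hl'⟩ := Subgroup.mem_zpowers_iff.1 hx1
        rcases Int.even_or_odd l' with ⟨a, rfl⟩ | ⟨a, rfl⟩
        · rw [← two_mul, zpow_mul, zpow_two, ht', one_zpow] at hl'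
          rw [← hl', orderOf_one] at hv2; omega
        · rw [zpow_add, zpow_mul, zpow_two, ht', one_zpow, one_mul, zpow_one] at hl'
          exact hvs hl'.symm
    refine h4C ?_
    have h := card_sup_of_inf_eq_bot hV hVd
    rw [Nat.card_zpowers, Nat.card_zpowers, ht, hv2] at h
    exact (dvd_of_eq h.symm).trans (Subgroup.card_dvd_of_le
      (sup_le (Subgroup.zpowers_le.2 hsC) (Subgroup.zpowers_le.2 hvC)))
  -- counting
  set I := Finset.univ.filter (fun v : G => orderOf v = 2) with hI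
  have hIn : I.card = n := by
    rw [hI, ← Fintype.card_subtype, hndef, Nat.card_eq_fintype_card]
  set J := Finset.univ.filter (fun v : G => orderOf v = 2 ∧ Commute v s₀ ∧ v ≠ s₀) with hJ
  set PF := Finset.univ.filter (fun v => v ∈ (P : Subgroup G)) with hPF
  have hPFc : PF.card = m := by
    rw [hPF, ← Fintype.card_subtype, hm, Nat.card_eq_fintype_card]
  have hJc : J.card + 2 * m ≤ 4 * m := by
    have hd1 : Disjoint PF (PF.image (· * s₀)) := by
      rw [Finset.disjoint_left]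
      intro v hv hv'
      obtain ⟨w, hw, rfl⟩ := Finset.mem_image.1 hv'
      simp only [hPF, Finset.mem_filter, Finset.mem_univ, true_and] at hv hw
      have h := mul_mem (inv_mem hw) hv
      rw [inv_mul_cancel_left] at h
      exact hs1 (S.eq_one_of_both (PE.of_mem P.2 h) hs)
    have hd2 : Disjoint J (PF ∪ PF.image (· * s₀)) := by
      rw [Finset.disjoint_left]
      intro v hv hv'
      simp only [hJ, Finset.mem_filter, Finset.mem_univ, true_and] at hv
      have hv2 : v * v = 1 := by rw [← pow_two, ← hv.1, pow_orderOf_eq_one]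
      rcases Finset.mem_union.1 hv' with h | h
      · simp only [hPF, Finset.mem_filter, Finset.mem_univ, true_and] at h
        rw [S.odd_eq_one (PE.of_mem P.2 h) (inv_eq_of_mul_eq_one_right hv2), orderOf_one] at hv
        exact absurd hv.1 (by norm_num)
      · obtain ⟨w, hw, rfl⟩ := Finset.mem_image.1 h
        simp only [hPF, Finset.mem_filter, Finset.mem_univ, true_and] at hw
        have hc : Commute w s₀ := ((hP w).1 hw).2
        have e : w * w = 1 := by
          calc w * w = w * w * (s₀ * s₀) := by rw [ht', mul_one]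
            _ = w * (w * s₀) * s₀ := by group
            _ = w * (s₀ * w) * s₀ := by rw [hc.eq]
            _ = w * s₀ * (w * s₀) := by group
            _ = 1 := hv2
        refine hv.2.2 ?_
        rw [S.odd_eq_one (PE.of_mem P.2 hw) (inv_eq_of_mul_eq_one_right e), one_mul]
    have hsub : J ∪ (PF ∪ PF.image (· * s₀)) ⊆
        Finset.univ.filter (fun v => v ∈ centralizer ({s₀} : Set G)) := by
      intro v hv
      simp only [Finset.mem_filter, Finset.mem_univ, true_and]
      rw [mem_centralizer_singleton_iff]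
      simp only [hJ, hPF, Finset.mem_union, Finset.mem_image, Finset.mem_filter, Finset.mem_univ,
        true_and] at hv
      rcases hv with h | h | ⟨w, hw, rfl⟩
      · exact h.2.1.eq
      · exact ((hP v).1 h).2.eq
      · exact ((((hP w).1 hw).2).mul_left (Commute.refl s₀)).eq
    have h := Finset.card_le_card hsub
    rw [Finset.card_union_of_disjoint hd2, Finset.card_union_of_disjoint hd1,
      Finset.card_image_of_injective _ (mul_left_injective s₀), hPFc] at h
    have hc : (Finset.univ.filter (fun v => v ∈ centralizer ({s₀} : Set G))).card = m * 4 := by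
      rw [← Fintype.card_subtype, ← Nat.card_eq_fintype_card]
      exact hcard
    omega
  set T := J.biUnion (fun w => Finset.univ.filter (fun z => PE p z ∧ z ≠ 1 ∧ Commute z w)) with hT
  have hTc : T.card ≤ J.card * (m - 1) := by
    refine Finset.card_biUnion_le_card_mul _ _ _ fun w hw => ?_
    simp only [hJ, Finset.mem_filter, Finset.mem_univ, true_and] at hw
    obtain ⟨g, hg⟩ := hconj w hw.1
    refine (Finset.card_le_card (t := (PF.erase 1).image (fun z => g * z * g⁻¹)) ?_).trans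
      (Finset.card_image_le.trans (le_of_eq ?_))
    · intro z hz
      simp only [Finset.mem_filter, Finset.mem_univ, true_and] at hz
      refine Finset.mem_image.2 ⟨g⁻¹ * z * g, ?_, by group⟩
      simp only [hPF, Finset.mem_erase, Finset.mem_filter, Finset.mem_univ, true_and]
      have h1 := S.conj_commute (g := g⁻¹) hz.2.2
      rw [← hg, show g⁻¹ * (g * s₀ * g⁻¹) * g⁻¹⁻¹ = s₀ by group, inv_inv] at h1
      refine ⟨fun e => hz.2.1 ?_, (hP _).2 ⟨by simpa using hz.1.conj g⁻¹, h1⟩⟩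
      rw [show z = g * (g⁻¹ * z * g) * g⁻¹ by group, e, mul_one, mul_inv_cancel]
    · rw [Finset.card_erase_of_mem (by simp [hPF, one_mem]), hPFc]
  obtain ⟨m', hm'⟩ : ∃ m', m = 2 * m' + 1 := by
    obtain ⟨k, hk⟩ := IsPGroup.iff_card.1 P.2
    obtain ⟨a, ha⟩ := (hp.out.odd_of_ne_two S.hp2).pow (n := k)
    exact ⟨a, by rw [hm, hk, ha]⟩
  have hIc : I.card ≤ 1 + J.card + 2 * T.card := by
    set I' := I.filter (fun v => ¬ Commute v s₀) with hI'
    have h1 : I ⊆ insert s₀ J ∪ I' := by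
      intro v hv
      by_cases hc : Commute v s₀
      · refine Finset.mem_union_left _ (Finset.mem_insert.2 ?_)
        rcases eq_or_ne v s₀ with rfl | hne
        · exact Or.inl rfl
        · exact Or.inr (Finset.mem_filter.2 ⟨Finset.mem_univ _, (Finset.mem_filter.1 hv).2, hc, hne⟩)
      · exact Finset.mem_union_right _ (Finset.mem_filter.2 ⟨hv, hc⟩)
    have hfacts : ∀ v ∈ I', (v * s₀) ^ 2 ≠ 1 ∧ PE p ((v * s₀) ^ 2) ∧
        s₀ * (v * s₀) ^ 2 * s₀⁻¹ = ((v * s₀) ^ 2)⁻¹ ∧ ((v * s₀) ^ m) ^ 2 = 1 := by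
      intro v hv
      obtain ⟨hv, hc⟩ := Finset.mem_filter.1 hv
      have hv : orderOf v = 2 := (Finset.mem_filter.1 hv).2
      obtain ⟨a, j, hij⟩ := S.product_pow hv ht
      set x := v * s₀ with hx
      have hv' : v * v = 1 := by rw [← pow_two, ← hv, pow_orderOf_eq_one]
      have h0 : s₀ * x * s₀⁻¹ = x⁻¹ := by
        rw [hx, mul_inv_rev, inv_eq_of_mul_eq_one_right hv', inv_eq_of_mul_eq_one_right ht',
          ← mul_assoc, mul_assoc (s₀ * v), ht', mul_one]
      have hxa : x ^ p ^ j * x ^ p ^ j = 1 := by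
        refine S.two_part_sq (j := a) ?_
        rw [orderOf_pow_of_dvd (pow_pos hp.out.pos j).ne' (hij ▸ dvd_mul_left _ _), hij,
          Nat.mul_div_cancel _ (pow_pos hp.out.pos j)]
      have hx2m : (x ^ 2) ^ m = 1 := by
        have hd : orderOf x ∣ 2 * p ^ j := orderOf_dvd_of_pow_eq_one (by rw [mul_comm, pow_mul, pow_two]; exact hxa)
        have hjm : p ^ j ∣ m := by
          rw [hm, P.card_eq_multiplicity]
          exact Nat.pow_dvd_pow _ ((hp.out.pow_dvd_iff_le_factorization Nat.card_pos.ne').1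
            ((hij ▸ dvd_mul_left _ _ : p ^ j ∣ orderOf x).trans (orderOf_dvd_natCard x)))
        rw [← pow_mul]
        exact orderOf_dvd_iff_pow_eq_one.1 (hd.trans (Nat.mul_dvd_mul_left 2 hjm))
      refine ⟨fun e => hc ?_, ?_, ?_, by rw [← pow_mul, mul_comm, pow_mul]; exact hx2m⟩
      · show v * s₀ = s₀ * v
        calc v * s₀ = x := rfl
          _ = x⁻¹ := (inv_eq_of_mul_eq_one_right (by rw [← pow_two]; exact e)).symm
          _ = s₀ * v := by
            rw [hx, mul_inv_rev, inv_eq_of_mul_eq_one_right hv', inv_eq_of_mul_eq_one_right ht']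
      · obtain ⟨k, hk⟩ := IsPGroup.iff_card.1 P.2
        obtain ⟨k', -, hk'⟩ := (Nat.dvd_prime_pow hp.out).1 (hk ▸ hm ▸ orderOf_dvd_of_pow_eq_one hx2m)
        exact ⟨k', hk'⟩
      · rw [← MulAut.conj_apply, map_pow, MulAut.conj_apply, h0, inv_pow]
    have hwz : ∀ z : G, PE p z → z ≠ 1 → ∃ w, orderOf w = 2 ∧ Commute z w := by
      intro z hz hz1
      obtain ⟨g, hg⟩ := exists_conj_mem P hz
      refine ⟨g⁻¹ * s₀ * g, ?_, ?_⟩
      · rw [show g⁻¹ * s₀ * g = g⁻¹ * s₀ * g⁻¹⁻¹ by group, S.conj_orderOf]; exact ht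
      · simpa [mul_assoc] using S.conj_commute (g := g⁻¹) ((hP _).1 hg).2
    have hmaps : ∀ v ∈ I', (v * s₀) ^ 2 ∈ T := by
      intro v hv
      obtain ⟨hz1, hz, hinv, -⟩ := hfacts v hv
      obtain ⟨w, hw, hzw⟩ := hwz _ hz hz1
      set z := (v * s₀) ^ 2 with hz_def
      refine Finset.mem_biUnion.2 ⟨w, Finset.mem_filter.2 ⟨Finset.mem_univ _, hw, ?_, ?_⟩,
        Finset.mem_filter.2 ⟨Finset.mem_univ _, hz, hz1, hzw⟩⟩
      · have h1 : Commute (s₀ * z * s₀⁻¹) (s₀ * w * s₀⁻¹) := S.conj_commute hzw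
        rw [hinv] at h1
        have e := huniq z hz hz1 (s₀ * w * s₀⁻¹) w ((S.conj_orderOf s₀ w).trans hw) hw
          (by simpa using h1.inv_left) hzw
        exact (mul_inv_eq_iff_eq_mul.1 e).symm
      · rintro rfl
        refine hz1 (S.odd_eq_one hz ?_)
        rw [← hinv, hzw.eq.symm, mul_inv_cancel_right]
    have h2 : I'.card ≤ (T ×ˢ (Finset.univ : Finset Bool)).card := by
      refine Finset.card_le_card_of_injOn
        (fun v => ((v * s₀) ^ 2, decide ((v * s₀) ^ m = 1)))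
        (fun v hv => Finset.mem_product.2 ⟨hmaps v hv, Finset.mem_univ _⟩) ?_
      intro v hv v' hv' e
      simp only [Prod.mk.injEq, decide_eq_decide] at e
      obtain ⟨hz1, hz, -, hxm⟩ := hfacts v hv
      obtain ⟨-, -, -, hxm'⟩ := hfacts v' hv'
      have key : (v * s₀) ^ m = (v' * s₀) ^ m := by
        by_cases h : (v * s₀) ^ m = 1
        · rw [h, e.2.1 h]
        · refine huniq _ hz hz1 _ _ (orderOf_eq_prime hxm h)
            (orderOf_eq_prime hxm' fun h' => h (e.2.2 h')) (Commute.pow_pow_self _ _ _) ?_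
          rw [e.1]
          exact Commute.pow_pow_self _ _ _
      have hx : ∀ x : G, x = x ^ m * ((x ^ 2) ^ m')⁻¹ := fun x => by
        rw [eq_mul_inv_iff_mul_eq, ← pow_mul, ← pow_succ', hm']
      have h := hx (v * s₀)
      rw [key, e.1, ← hx (v' * s₀)] at h
      exact mul_right_cancel h
    rw [Finset.card_product, Finset.card_univ, Fintype.card_bool] at h2
    have := (Finset.card_le_card h1).trans (Finset.card_union_le _ _)
    have := Finset.card_insert_le s₀ J
    omega
  have hnlt : n < 4 * m * m := by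
    have h1 : T.card ≤ (2 * m) * (m - 1) := hTc.trans (Nat.mul_le_mul_right _ (by omega))
    obtain ⟨k, hk⟩ : ∃ k, m = k + 1 := ⟨m - 1, by omega⟩
    rw [hk, Nat.add_sub_cancel] at h1
    rw [hk] at hJc ⊢
    nlinarith
  -- the order formula
  obtain ⟨M, hM⟩ := Cfsg.Lib.Blocks.exists_isPModular (p := 2) Nat.prime_two
  have hQ4 : IsKleinFour (Q : Subgroup G) := by
    refine ⟨h4, ?_⟩
    refine (Nat.dvd_prime Nat.prime_two).1 (Monoid.exponent_dvd_of_forall_pow_eq_one fun g => ?_) |>.resolve_left ?_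
    · exact Subtype.ext (by rw [pow_two]; exact S.exp g g.2)
    · intro h
      have h1 := Monoid.exp_eq_one_iff.1 h
      have := Nat.card_eq_one_iff_unique.2 ⟨h1, inferInstance⟩
      omega
  have hone : ∀ a b : G, orderOf a = 2 → orderOf b = 2 → IsConj a b := by
    intro a b ha hb
    obtain ⟨g, rfl⟩ := hconj a ha
    obtain ⟨g', rfl⟩ := hconj b hb
    exact isConj_iff.2 ⟨g' * g⁻¹, by group⟩
  obtain ⟨χ₁, χ₂, χ₃, ε, hε, hd1, hd2, hd12, hd13, hd23, hB, hval, h41, h42, h43, hrel⟩ :=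
    Cfsg.Agent.S0948.result M hM Q hQ4 hone
  obtain ⟨g₀, hg₀⟩ : 4 ∣ Nat.card G := h4 ▸ Subgroup.card_subgroup_dvd_card _
  have hodd : Odd g₀ := by
    rw [Nat.odd_iff, ← Nat.two_dvd_ne_zero]
    intro h2
    have h8 : 2 ^ 3 ∣ Nat.card G := by
      rw [hg₀]; exact Nat.mul_dvd_mul_left 4 h2
    have h3 := (Nat.prime_two.pow_dvd_iff_le_factorization Nat.card_pos.ne').1 h8
    have h2' := h4 ▸ Q.card_eq_multiplicity
    have := Nat.pow_le_pow_right (show 0 < 2 by norm_num) h3
    omega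
  have hnc : ¬ ∃ N : Subgroup G, N.Normal ∧ Nat.card N = g₀ := by
    rintro ⟨N, hN, hNc⟩
    rcases S.simple N hN with rfl | rfl
    · rw [Subgroup.card_bot] at hNc
      have := S.hpG
      rw [hg₀, ← hNc, mul_one] at this
      exact S.hp2 ((Nat.prime_dvd_prime_iff_eq hp.out Nat.prime_two).1
        (hp.out.dvd_of_dvd_pow (show p ∣ 2 ^ 2 by norm_num; exact this)))
    · rw [Subgroup.card_top] at hNc
      have := Nat.card_pos (α := G)
      omega
  have hd3 : (χ₃ : G → ℂ) ≠ (fun _ => 1) := fun e => by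
    have h := (hval s₀ ht).2.2
    rw [e] at h
    norm_num at h
  have hform := Cfsg.Agent.S4479.result M hM g₀ hodd hg₀ hnc Q s₀ hs ht χ₁ χ₂ χ₃ 1 ε (-1) hB
    ⟨hd1, hd2, hd3, hd12, hd13, hd23⟩ ⟨Or.inl rfl, hε, Or.inr rfl⟩
    ⟨by simpa using (hval s₀ ht).1, (hval s₀ ht).2.1, by simpa using (hval s₀ ht).2.2⟩
  have hCQ : centralizer ((Q : Subgroup G) : Set G) = (Q : Subgroup G) := by
    refine le_antisymm ?_ fun x hx => mem_centralizer_iff.2 fun a ha => S.commQ ha hx
    refine Cfsg.Lib.Transfer.le_of_forall_prime_pow fun g hg r k hr hk => ?_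
    rcases Nat.eq_zero_or_pos k with rfl | hk0
    · rw [pow_zero, orderOf_eq_one_iff] at hk
      exact hk ▸ one_mem _
    have hgs : g ∈ centralizer ({s₀} : Set G) :=
      mem_centralizer_singleton_iff.2 ((mem_centralizer_iff.1 hg) s₀ hs).symm
    rcases S.sub _ (S.centralizer_ne_top hs1) (ht ▸ Subgroup.orderOf_dvd_natCard _
        (mem_centralizer_singleton_iff.2 rfl : s₀ ∈ centralizer ({s₀} : Set G))) r hr
      ((hk ▸ dvd_pow_self r hk0.ne').trans (Subgroup.orderOf_dvd_natCard _ hgs)) with rfl | rfl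
    · exact S.centralizer_Q_trivial ⟨k, hk⟩ hg ▸ one_mem _
    · exact mem_sylow_of_normalizes Q ⟨k, hk⟩ (Subgroup.centralizer_le_normalizer _ hg)
  rw [hCQ, h4, hcard] at hform
  -- degrees
  have hperf : commutator G = ⊤ := (S.simple _ inferInstance).resolve_left fun h =>
    S.not_comm_all fun a b => commutatorElement_eq_one_iff_mul_comm.1
      (Subgroup.mem_bot.1 (h ▸ Subgroup.commutator_mem_commutator (mem_top a) (mem_top b)))
  have hlin : ∀ χ : Cfsg.IrrCharacter G, (χ : G → ℂ) ≠ (fun _ => 1) →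
      Cfsg.charDegree (χ : G → ℂ) ≠ 1 := by
    intro χ hne hd
    refine hne ?_
    have h1 : (χ : G → ℂ) 1 = 1 := by
      rw [Cfsg.Lib.Chars.irr_apply_one_eq_deg]
      exact_mod_cast hd
    obtain ⟨f, hf⟩ := Cfsg.Lib.Chars.exists_hom_of_deg_one (Cfsg.Lib.Chars.isCharacter_of_irr χ.2) h1
    funext g
    rw [congrFun hf g, MonoidHom.mem_ker.1 (Abelianization.commutator_subset_ker f (hperf ▸ mem_top g))]
    norm_num
  have e1 := hlin _ hd1
  have e2 := hlin _ hd2
  have hrel1 := hrel 1 (by rw [orderOf_one]; exact odd_one)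
  rw [Cfsg.Lib.Chars.irr_apply_one_eq_deg, Cfsg.Lib.Chars.irr_apply_one_eq_deg,
    Cfsg.Lib.Chars.irr_apply_one_eq_deg] at hrel1
  set x₁ := Cfsg.charDegree (χ₁ : G → ℂ)
  set x₂ := Cfsg.charDegree (χ₂ : G → ℂ)
  set x₃ := Cfsg.charDegree (χ₃ : G → ℂ)
  change 1 + (x₁ : ℂ) + (ε : ℂ) * (x₂ : ℂ) - (x₃ : ℂ) = 0 at hrel1
  have hrelZ : (1 : ℤ) + x₁ + ε * x₂ - x₃ = 0 := by
    apply Int.cast_injective (α := ℂ)
    push_cast
    exact hrel1
  have hb1 : 5 ≤ x₁ := by omega
  have hGq : (Nat.card G : ℚ) = (n : ℚ) * (m * 4) := by rw [← hn]; push_cast; ring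
  have hmq : (2 : ℚ) ≤ m := by exact_mod_cast hm1
  have hnq : (n : ℚ) < 4 * m * m := by exact_mod_cast hnlt
  push_cast at hform
  rw [hGq] at hform
  -- the product of the degree ratios exceeds one half
  have hX : (1 : ℚ) / 2 < ((x₁ : ℚ) * x₂ * x₃) / ((x₁ + 1) * (x₂ + ε) * (x₃ + -1)) := by
    have hx1 : (5 : ℚ) ≤ x₁ := by exact_mod_cast hb1
    have hrq : (1 : ℚ) + x₁ + ε * x₂ - x₃ = 0 := by exact_mod_cast hrelZ
    rcases hε with rfl | rfl
    · have hx2 : (5 : ℚ) ≤ x₂ := by exact_mod_cast (show 5 ≤ x₂ by omega)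
      push_cast at hrq ⊢
      have hx3 : (x₃ : ℚ) = 1 + x₁ + x₂ := by linarith
      rw [lt_div_iff₀ (by rw [hx3]; have : (0:ℚ) < x₁ + x₂ := by linarith
                          have h2 : (0:ℚ) < (x₁:ℚ) + 1 := by linarith
                          have h3 : (0:ℚ) < (x₂:ℚ) + 1 := by linarith
                          have h4 : (1:ℚ) + x₁ + x₂ + -1 = x₁ + x₂ := by ring
                          rw [h4]; positivity), hx3]
      nlinarith [mul_nonneg (sub_nonneg.2 hx1) (sub_nonneg.2 hx2)]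
    · have hx2 : (3 : ℚ) ≤ x₂ := by exact_mod_cast (show 3 ≤ x₂ by omega)
      have hx3' : (3 : ℚ) ≤ x₃ := by exact_mod_cast (show 3 ≤ x₃ by omega)
      push_cast at hrq ⊢
      have hp1 : (0 : ℚ) < (x₁ : ℚ) + 1 := by linarith
      have hp2 : (0 : ℚ) < (x₂ : ℚ) + -1 := by linarith
      have hp3 : (0 : ℚ) < (x₃ : ℚ) + -1 := by linarith
      rw [lt_div_iff₀ (by positivity)]
      nlinarith [mul_pos hp2 hp3, mul_le_mul (show (x₂ : ℚ) + -1 ≤ x₂ by linarith)
        (show (x₃ : ℚ) + -1 ≤ x₃ by linarith) hp3.le (by linarith)]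
  generalize hXdef : ((x₁ : ℚ) * x₂ * x₃) / ((x₁ + 1) * (x₂ + ε) * (x₃ + -1)) = X at hX hform
  rw [show (8 : ℚ) * X * ((m : ℚ) * 4) ^ 3 / 4 ^ 2 = 8 * X * m * m * ((m : ℚ) * 4) by ring] at hform
  have hne : ((m : ℚ) * 4) ≠ 0 := by positivity
  have := mul_right_cancel₀ hne hform
  nlinarith

end Sp

theorem false_of_ctx {p q : ℕ} (C : Ctx G p q) : False := by
  obtain ⟨_, Q, y, S⟩ := C.exists_special
  exact S.contradiction_final

end Cfsg.Lib.Mixed
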