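import Cfsg.Agent.MixedPrimes.Reduce
import Cfsg.Agent.Coprime.Generation

/-!
Local analysis in the special configuration: involution centralizers have a normal abelian `p`-complement
and, in the end, the Sylow 2-subgroup is a four-group with a Sylow `p`-subgroup centralizing an involution.
-/

set_option autoImplicit false
set_option linter.unusedSectionVars false

namespace Cfsg.Lib.Mixed

open Subgroup
open Cfsg.Lib.Coprime Cfsg.Lib.Components
open scoped commutatorElement

variable {G : Type*} [Group G] [Finite G]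

instance fact_two : Fact (Nat.Prime 2) := ⟨Nat.prime_two⟩

namespace Sp

variable {p : ℕ} [hp : Fact p.Prime] {Q : Sylow 2 G} {y : G} (S : Sp G p Q y)
include S

theorem three_le : 3 ≤ p := by
  have := hp.out.two_le
  have := S.hp2
  omega

theorem not_dvd_two : ¬ p ∣ 2 := fun h =>
  S.hp2 ((Nat.prime_dvd_prime_iff_eq hp.out Nat.prime_two).1 h)

theorem eq_one_of_both {z : G} (hz : PE p z) (hzQ : z ∈ (Q : Subgroup G)) : z = 1 :=
  hz.eq_one_of_coprime S.not_dvd_two (by rw [pow_two]; exact S.exp z hzQ)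

theorem inv_eq {u : G} (hu : u ∈ (Q : Subgroup G)) : u⁻¹ = u :=
  inv_eq_of_mul_eq_one_right (S.exp u hu)

theorem commQ {u v : G} (hu : u ∈ (Q : Subgroup G)) (hv : v ∈ (Q : Subgroup G)) :
    u * v = v * u := by
  have h := S.inv_eq ((Q : Subgroup G).mul_mem hu hv)
  rw [mul_inv_rev, S.inv_eq hu, S.inv_eq hv] at h
  exact h.symm

theorem isMulCommutativeQ : IsMulCommutative (Q : Subgroup G) :=
  ⟨⟨fun a b => Subtype.ext (S.commQ a.2 b.2)⟩⟩

theorem commP {H : Subgroup G} (hH : IsPGroup p H) {a b : G} (ha : a ∈ H) (hb : b ∈ H) :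
    a * b = b * a := by
  obtain ⟨P, hP⟩ := hH.exists_le_sylow
  haveI := S.comm P
  exact Subtype.ext_iff.1 (mul_comm' (⟨a, hP ha⟩ : (P : Subgroup G)) ⟨b, hP hb⟩)

theorem sylow_le_centralizer {H : Subgroup G} (hH : IsPGroup p H) {z : G} (hz : z ∈ H) :
    H ≤ centralizer ({z} : Set G) := fun _ hx =>
  mem_centralizer_singleton_iff.2 (S.commP hH hx hz)

theorem two_le_card : 1 < Nat.card (Q : Subgroup G) := by
  rw [S.cardQ]; have := S.three_le; omega

theorem exists_one : ∃ u ∈ (Q : Subgroup G), u ≠ 1 := by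
  have h := S.two_le_card
  rw [Subgroup.one_lt_card_iff_ne_bot] at h
  exact (Subgroup.bot_or_exists_ne_one (Q : Subgroup G)).resolve_left h

theorem orderOf_mem {u : G} (hu : u ∈ (Q : Subgroup G)) (h1 : u ≠ 1) : orderOf u = 2 :=
  orderOf_eq_prime (by rw [pow_two]; exact S.exp u hu) h1

theorem y_moves : ∃ u ∈ (Q : Subgroup G), y * u * y⁻¹ ≠ u := by
  by_contra hcon
  push Not at hcon
  obtain ⟨u, hu, hu1⟩ := S.exists_one
  have hfix : ∀ i : ℕ, y ^ i * u * (y ^ i)⁻¹ = u := fun i => by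
    induction i with
    | zero => simp
    | succ i ih =>
      rw [pow_succ', mul_inv_rev, show y * y ^ i * u * ((y ^ i)⁻¹ * y⁻¹) =
        y * (y ^ i * u * (y ^ i)⁻¹) * y⁻¹ by group, ih, hcon u hu]
  have hall : ∀ w ∈ (Q : Subgroup G), w = 1 ∨ w = u := fun w hw => by
    rcases eq_or_ne w 1 with h | h
    · exact Or.inl h
    · obtain ⟨i, hi⟩ := S.trans u hu hu1 w hw h
      exact Or.inr (hi ▸ hfix i)
  have h2 : (Q : Subgroup G) ≤ Subgroup.zpowers u := fun w hw => by
    rcases hall w hw with rfl | rfl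
    · exact one_mem _
    · exact Subgroup.mem_zpowers _
  have h3 := Nat.le_of_dvd Nat.card_pos (Subgroup.card_dvd_of_le h2)
  rw [Nat.card_zpowers, S.orderOf_mem hu hu1, S.cardQ] at h3
  have := S.three_le
  omega

theorem y_not_central : ¬ y ∈ centralizer ((Q : Subgroup G) : Set G) := fun h => by
  obtain ⟨u, hu, hne⟩ := S.y_moves
  exact hne (by rw [← (mem_centralizer_iff.1 h) u hu, mul_inv_cancel_right])

theorem y_not_mem {P : Sylow p G} (hQ : (Q : Subgroup G) ≤ normalizer ((P : Subgroup G) : Set G))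
    (hy : y ∈ (P : Subgroup G)) : False := by
  obtain ⟨u, hu, hne⟩ := S.y_moves
  refine hne ?_
  have h1 : y * u * y⁻¹ * u⁻¹ ∈ (Q : Subgroup G) :=
    mul_mem (((mem_normalizer_iff.1 S.yN) u).1 hu) (inv_mem hu)
  have h2 : y * (u * y⁻¹ * u⁻¹) ∈ (P : Subgroup G) :=
    mul_mem hy (((mem_normalizer_iff.1 (hQ hu)) y⁻¹).1 (inv_mem hy))
  have := S.eq_one_of_both (PE.of_mem P.2 h2) (by simpa [mul_assoc] using h1)
  exact mul_inv_eq_one.1 (by simpa [mul_assoc] using this)

/-- a `p`-element normalizing `Q` and fixing an involution of `Q` centralizes `Q` -/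
theorem fix_centralizes {z : G} (hz : PE p z) (hzN : z ∈ normalizer ((Q : Subgroup G) : Set G))
    {u : G} (hu : u ∈ (Q : Subgroup G)) (hu1 : u ≠ 1) (hfix : z * u = u * z) :
    z ∈ centralizer ((Q : Subgroup G) : Set G) := by
  rw [mem_centralizer_iff]
  intro v hv
  by_contra hne
  obtain ⟨O, hOp, hO⟩ := orbit_big hz hzN hv fun h => hne (mul_inv_eq_iff_eq_mul.1 h).symm
  obtain ⟨hle, hfull⟩ := card_le_sub_one O fun w hw => ⟨(hO w hw).1, (hO w hw).2.1⟩
  obtain ⟨-, -, i, hi⟩ := hO u (hfull (by have := S.cardQ; omega) u hu hu1)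
  refine hne ?_
  have hc : Commute (z ^ i) u := (show Commute z u from hfix).pow_left i
  have huv : v = u := by
    have h2 : v = (z ^ i)⁻¹ * u * z ^ i := by rw [← hi]; group
    rw [h2, mul_assoc, ← hc.eq, inv_mul_cancel_left]
  rw [huv, hfix]

/-- a `p`-element normalizing a proper subgroup of `Q` centralizes it -/
theorem centralizes_small {X : Subgroup G} (hX : X ≤ (Q : Subgroup G)) (hne : X ≠ (Q : Subgroup G))
    {z : G} (hz : PE p z) (hzN : z ∈ normalizer (X : Set G)) : z ∈ centralizer (X : Set G) := by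
  rw [mem_centralizer_iff]
  intro v hv
  by_contra hnc
  obtain ⟨O, hOp, hO⟩ := orbit_big hz hzN hv fun h => hnc (mul_inv_eq_iff_eq_mul.1 h).symm
  obtain ⟨hle, -⟩ := card_le_sub_one O fun w hw => ⟨(hO w hw).1, (hO w hw).2.1⟩
  have h1 : Nat.card X < Nat.card (Q : Subgroup G) :=
    lt_of_le_of_ne (Nat.le_of_dvd Nat.card_pos (Subgroup.card_dvd_of_le hX)) fun e =>
      hne (Subgroup.eq_of_le_of_card_ge hX e.ge)
  rw [S.cardQ] at h1
  have := S.three_le
  omega

theorem center_bot : center G = ⊥ := by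
  refine (S.simple _ inferInstance).resolve_right fun h => ?_
  obtain ⟨u, hu, hne⟩ := S.y_moves
  refine hne ?_
  rw [(mem_center_iff.1 (h ▸ mem_top u)) y, mul_inv_cancel_right]

theorem centralizer_ne_top {z : G} (hz : z ≠ 1) : centralizer ({z} : Set G) ≠ ⊤ := fun h => by
  refine hz ?_
  rw [← Subgroup.mem_bot, ← S.center_bot, mem_center_iff]
  exact fun g => mem_centralizer_singleton_iff.1 (h ▸ mem_top g)

theorem not_comm_all (h : ∀ a b : G, a * b = b * a) : False := by
  obtain ⟨u, hu, hne⟩ := S.y_moves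
  exact hne (by rw [h y u, mul_inv_cancel_right])

theorem normalizer_ne_top {H : Subgroup G} (h1 : H ≠ ⊥) (hH : IsPGroup p H) :
    normalizer (H : Set G) ≠ ⊤ := fun h => by
  rcases S.simple H (normalizer_eq_top_iff.1 h) with e | e
  · exact h1 e
  · exact S.not_comm_all fun a b => S.commP hH (e ▸ mem_top a) (e ▸ mem_top b)

theorem normalizer_zpowers_ne_top {z : G} (hz : z ≠ 1) :
    normalizer (Subgroup.zpowers z : Set G) ≠ ⊤ := fun h => by
  rcases S.simple _ (normalizer_eq_top_iff.1 h) with e | e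
  · exact hz (Subgroup.zpowers_eq_bot.1 e)
  · refine S.not_comm_all fun a b => ?_
    obtain ⟨i, rfl⟩ := Subgroup.mem_zpowers_iff.1 (e ▸ mem_top a)
    obtain ⟨j, rfl⟩ := Subgroup.mem_zpowers_iff.1 (e ▸ mem_top b)
    rw [← zpow_add, ← zpow_add, add_comm]

theorem dvd_two_of_mem {H : Subgroup G} (hQ : (Q : Subgroup G) ≤ H) : 2 ∣ Nat.card H := by
  obtain ⟨u, hu, hu1⟩ := S.exists_one
  rw [← S.orderOf_mem hu hu1]
  exact Subgroup.orderOf_dvd_natCard _ (hQ hu)

theorem exists_card_eq {H : Subgroup G} (hH : H ≠ ⊤) (h2 : 2 ∣ Nat.card H) :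
    ∃ i j, Nat.card H = 2 ^ i * p ^ j := by
  have hc : Nat.card H / 2 ^ (Nat.card H).factorization 2 ≠ 0 :=
    (Nat.ordCompl_pos 2 Nat.card_pos.ne').ne'
  refine ⟨(Nat.card H).factorization 2, (Nat.card H / 2 ^ (Nat.card H).factorization 2).primeFactorsList.length, ?_⟩
  rw [← Nat.eq_prime_pow_of_unique_prime_dvd hc fun {d} hd hdd => ?_,
    Nat.ordProj_mul_ordCompl_eq_self]
  rcases S.sub H hH h2 d hd (hdd.trans (Nat.ordCompl_dvd _ 2)) with e | e
  · exact e
  · exact absurd (e ▸ hdd) (Nat.not_dvd_ordCompl Nat.prime_two Nat.card_pos.ne')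

/-- the centralizer of an involution of `Q` -/
theorem cent_structure {s : G} (hs : s ∈ (Q : Subgroup G)) (hs1 : s ≠ 1) :
    ∃ O : Subgroup G, (∀ g ∈ centralizer ({s} : Set G), ∀ x ∈ O, g * x * g⁻¹ ∈ O) ∧ IsPGroup p O ∧
      (∀ z, PE p z → z ∈ centralizer ({s} : Set G) → z ∈ O) ∧ O ≤ centralizer ({s} : Set G) ∧
      Nat.card (centralizer ({s} : Set G)) = Nat.card O * Nat.card (Q : Subgroup G) := by
  set K := centralizer ({s} : Set G) with hK
  have hQK : (Q : Subgroup G) ≤ K := fun x hx => mem_centralizer_singleton_iff.2 (S.commQ hx hs)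
  have hKt : K ≠ ⊤ := S.centralizer_ne_top hs1
  have h2 := S.dvd_two_of_mem hQK
  set R := Q.subtype hQK with hR
  have hN : normalizer (R : Set K) ≤ centralizer ((R : Subgroup K) : Set K) := by
    refine Cfsg.Lib.Transfer.le_of_forall_prime_pow fun g hg r k hr hk => ?_
    rcases Nat.eq_zero_or_pos k with rfl | hk0
    · rw [pow_zero, orderOf_eq_one_iff] at hk
      exact hk ▸ one_mem _
    have hgN : (g : G) ∈ normalizer ((Q : Subgroup G) : Set G) :=
      mem_normalizer_of_maps fun z hz =>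
        ((mem_normalizer_iff.1 hg) ⟨z, hQK hz⟩).1 hz
    rcases S.sub K hKt h2 r hr
      ((hk ▸ dvd_pow_self r hk0.ne').trans (orderOf_dvd_natCard g)) with rfl | rfl
    · have h1 := S.fix_centralizes (z := (g : G)) ⟨k, by rw [Subgroup.orderOf_coe, hk]⟩ hgN hs hs1
        (mem_centralizer_singleton_iff.1 g.2)
      rw [mem_centralizer_iff]
      exact fun w hw => Subtype.ext ((mem_centralizer_iff.1 h1) _ hw)
    · have h1 := mem_sylow_of_normalizes Q ⟨k, by rw [Subgroup.orderOf_coe, hk]⟩ hgN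
      rw [mem_centralizer_iff]
      exact fun w hw => Subtype.ext (S.commQ hw h1)
  have hcompl := MonoidHom.ker_transferSylow_isComplement' R hN
  set N := (MonoidHom.transferSylow R hN).ker with hNdef
  have hidx : N.index = Nat.card (R : Subgroup K) := hcompl.symm.index_eq_card
  have hRc : Nat.card (R : Subgroup K) = Nat.card (Q : Subgroup G) := by
    rw [hR, Sylow.coe_subtype]
    exact Nat.card_congr (Subgroup.subgroupOfEquivOfLe hQK).toEquiv
  obtain ⟨hcop, k, hk⟩ := Cfsg.Lib.Transfer.complement_props hcompl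
  refine ⟨N.map K.subtype, ?_, ?_, ?_, Subgroup.map_subtype_le N, ?_⟩
  · rintro g hg _ ⟨x, hx, rfl⟩
    exact ⟨_, (inferInstance : N.Normal).conj_mem x hx ⟨g, hg⟩, rfl⟩
  · refine IsPGroup.map (IsPGroup.of_card (Nat.eq_prime_pow_of_unique_prime_dvd Nat.card_pos.ne'
      fun {d} hd hdd => ?_)) _
    rcases S.sub K hKt h2 d hd (hdd.trans (Subgroup.card_subgroup_dvd_card _)) with e | e
    · exact e
    · exfalso
      subst e
      exact hd.one_lt.ne' (Nat.eq_one_of_dvd_coprimes hcop hdd dvd_rfl)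
  · intro z hz hzK
    refine ⟨⟨z, hzK⟩, mem_of_coprime_index N ?_, rfl⟩
    obtain ⟨j, hj⟩ := hz
    rw [← Subgroup.orderOf_coe, hj, hk]
    exact Nat.Coprime.pow _ _ ((Nat.coprime_primes hp.out Nat.prime_two).2 S.hp2)
  · rw [Subgroup.card_map_of_injective K.subtype_injective, ← hRc, hcompl.card_mul]

/-- the key dichotomy -/
theorem dichotomy {H : Subgroup G} (hH : H ≠ ⊤) (hQ : (Q : Subgroup G) ≤ H) (P : Sylow p G)
    (hP : (P : Subgroup G) ≤ H) :
    H ≤ normalizer ((P : Subgroup G) : Set G) ∨ H ≤ normalizer ((Q : Subgroup G) : Set G) := by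
  obtain ⟨i, j, hij⟩ := S.exists_card_eq hH (S.dvd_two_of_mem hQ)
  haveI : Group.IsSolvable H :=
    Cfsg.Lib.Chars.burnside_isSolvable 2 p Nat.prime_two hp.out H ⟨i, j, hij⟩
  set X := (Cfsg.pCore 2 H).map H.subtype with hX
  have hnorm : ∀ N : Subgroup H, N.Normal → H ≤ normalizer (N.map H.subtype : Set G) := by
    intro N hN g hg
    refine mem_normalizer_of_maps ?_
    rintro _ ⟨n, hn, rfl⟩
    exact ⟨_, hN.conj_mem n hn ⟨g, hg⟩, rfl⟩
  have hXN : H ≤ normalizer (X : Set G) := hnorm _ inferInstance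
  have hXQ : X ≤ (Q : Subgroup G) := fun x hx =>
    mem_sylow_of_normalizes Q (PE.of_mem ((isPGroup_pCore 2).map _) hx) <| by
      obtain ⟨n, hn, rfl⟩ := hx
      exact le_normalizer ((pCore_le_sylow 2 (Q.subtype hQ)) hn)
  by_cases hXe : X = (Q : Subgroup G)
  · exact Or.inr (hXe ▸ hXN)
  by_cases hXb : X = ⊥
  · left
    have hb : Cfsg.pPrimeCore p H = ⊥ := by
      have h2 : Cfsg.pCore 2 H = ⊥ := (Subgroup.map_eq_bot_iff_of_injective _ H.subtype_injective).1 hXb
      rw [eq_bot_iff, ← h2]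
      refine le_pCore (IsPGroup.of_card (Nat.eq_prime_pow_of_unique_prime_dvd Nat.card_pos.ne'
        fun {d} hd hdd => ?_))
      rcases S.sub H hH (S.dvd_two_of_mem hQ) d hd
        (hdd.trans (Subgroup.card_subgroup_dvd_card _)) with e | e
      · exfalso
        subst e
        exact hd.one_lt.ne' (Nat.eq_one_of_dvd_coprimes (coprime_card_pPrimeCore (G := H) (p := d)) hdd dvd_rfl)
      · exact e
    have hle : ((P.subtype hP : Sylow p H) : Subgroup H) ≤ Cfsg.pCore p H := by
      intro x hx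
      refine centralizer_pCore_le p hb ?_
      rw [mem_centralizer_iff]
      intro w hw
      exact Subtype.ext (S.commP P.2 (pCore_le_sylow p (P.subtype hP) hw) hx)
    have heq : ((P.subtype hP : Sylow p H) : Subgroup H) = Cfsg.pCore p H :=
      le_antisymm hle (pCore_le_sylow p _)
    have h := hnorm _ (inferInstance : (Cfsg.pCore p H).Normal)
    rw [← heq, Sylow.coe_subtype, Subgroup.subgroupOf_map_subtype, inf_of_le_left hP] at h
    exact h
  · left
    obtain ⟨s, hs, hs1⟩ := (Subgroup.bot_or_exists_ne_one X).resolve_left hXb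
    have hc : ∀ x ∈ (P : Subgroup G), x * s = s * x := fun x hx =>
      ((mem_centralizer_iff.1 (S.centralizes_small hXQ hXe (PE.of_mem P.2 hx) (hXN (hP hx)))) s hs).symm
    have hHs : H ≤ centralizer ({s} : Set G) := by
      refine Cfsg.Lib.Coprime.le_of_forall_sylow fun r hr => ?_
      haveI := Fact.mk hr
      by_cases h2 : r = 2
      · subst h2
        refine ⟨Q.subtype hQ, ?_⟩
        rw [Sylow.coe_subtype, Subgroup.subgroupOf_map_subtype, inf_of_le_left hQ]
        exact fun x hx => mem_centralizer_singleton_iff.2 (S.commQ hx (hXQ hs))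
      by_cases hrp : r = p
      · subst hrp
        refine ⟨P.subtype hP, ?_⟩
        rw [Sylow.coe_subtype, Subgroup.subgroupOf_map_subtype, inf_of_le_left hP]
        exact fun x hx => mem_centralizer_singleton_iff.2 (hc x hx)
      obtain ⟨R⟩ : Nonempty (Sylow r H) := inferInstance
      refine ⟨R, ?_⟩
      have hR : (R : Subgroup H) = ⊥ := by
        obtain ⟨n, hn⟩ := IsPGroup.iff_card.1 R.2
        rcases Nat.eq_zero_or_pos n with rfl | hn0
        · exact Subgroup.eq_bot_of_card_eq _ (by rw [hn, pow_zero])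
        · exfalso
          rcases S.sub H hH (S.dvd_two_of_mem hQ) r hr
            (((dvd_pow_self r hn0.ne').trans (dvd_of_eq hn.symm)).trans
              (Subgroup.card_subgroup_dvd_card _)) with e | e
          · exact hrp e
          · exact h2 e
      rw [hR, Subgroup.map_bot]
      exact bot_le
    intro g hg
    refine mem_normalizer_of_maps fun x hx => ?_
    have hQs : (Q : Subgroup G) ≤ centralizer ({s} : Set G) := fun w hw =>
      mem_centralizer_singleton_iff.2 (S.commQ hw (hXQ hs))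
    have hPs : (P : Subgroup G) ≤ centralizer ({s} : Set G) := fun w hw => hHs (hP hw)
    obtain ⟨N, hNn, hNp, hNm, hNle⟩ := S.cent_structure (hXQ hs) hs1
    exact (P.3 hNp fun w hw => hNm w (PE.of_mem P.2 hw) (hPs hw)) ▸
      hNn g (hHs hg) x (hNm x (PE.of_mem P.2 hx) (hPs hx))

end Sp

end Cfsg.Lib.Mixed
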