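import Cfsg.Agent.MixedPrimes.Basic
import Cfsg.Agent.Coprime.Fitting
import Cfsg.Agent.Chars.Burnside

/-!
Reduction of a minimal counterexample: `q = 2`, the Sylow 2-subgroup has order `p + 1`, and some `p`-element
permutes its involutions transitively; the group is simple.
-/

set_option autoImplicit false
set_option linter.unusedSectionVars false

namespace Cfsg.Lib.Mixed

open Subgroup
open Cfsg.Lib.Coprime
open scoped commutatorElement

variable {G : Type*} [Group G] [Finite G]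

/-- A minimal counterexample. -/
structure Ctx (G : Type*) [Group G] (p q : ℕ) : Prop where
  hp : p.Prime
  hq : q.Prime
  hpq : p ≠ q
  hp2 : p ≠ 2
  hpG : p ∣ Nat.card G
  hqG : q ∣ Nat.card G
  sub : ∀ H : Subgroup G, H ≠ ⊤ → q ∣ Nat.card H → ∀ s : ℕ, s.Prime → s ∣ Nat.card H → s = p ∨ s = q
  bad : ∃ r : ℕ, r.Prime ∧ r ∣ Nat.card G ∧ r ≠ p ∧ r ≠ q
  large : q ^ (Nat.card G).factorization q - 1 < p ∨
    (p = q ^ (Nat.card G).factorization q - 1 ∧ ∀ P : Sylow p G, IsMulCommutative P)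

theorem prime_dvd_mul_pgroup {X Y : Subgroup G} (hY : Y ≤ normalizer (X : Set G)) {q r : ℕ}
    [Fact q.Prime] [Fact r.Prime] (hX : IsPGroup q X) (hYr : IsPGroup r Y) {s : ℕ} (hs : s.Prime)
    (h : s ∣ Nat.card ↥(X ⊔ Y)) : s = q ∨ s = r := by
  have h1 : s ∣ Nat.card X * Nat.card Y :=
    h.trans (card_sup_mul_card_inf hY ▸ dvd_mul_right _ _)
  obtain ⟨i, hi⟩ := IsPGroup.iff_card.1 hX
  obtain ⟨j, hj⟩ := IsPGroup.iff_card.1 hYr
  rw [hi, hj] at h1
  rcases hs.dvd_mul.1 h1 with h2 | h2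
  · exact Or.inl ((Nat.prime_dvd_prime_iff_eq hs Fact.out).1 (hs.dvd_of_dvd_pow h2))
  · exact Or.inr ((Nat.prime_dvd_prime_iff_eq hs Fact.out).1 (hs.dvd_of_dvd_pow h2))

namespace Ctx

variable {p q : ℕ} (C : Ctx G p q)
include C

/-- no element of order divisible by a third prime normalizes a nontrivial `q`-subgroup -/
theorem no_normalize {X : Subgroup G} (hX : IsPGroup q X) (hX1 : X ≠ ⊥) {g : G}
    (hg : g ∈ normalizer (X : Set G)) {s : ℕ} (hs : s.Prime) (hsg : s ∣ orderOf g) :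
    s = p ∨ s = q := by
  haveI := Fact.mk C.hq
  haveI := Fact.mk hs
  set w := g ^ (orderOf g / s) with hw
  have how : orderOf w = s := by
    rw [hw, orderOf_pow_of_dvd (Nat.div_pos (Nat.le_of_dvd (orderOf_pos g) hsg) hs.pos).ne'
      (Nat.div_dvd_of_dvd hsg), Nat.div_div_self hsg (orderOf_pos g).ne']
  have hY : Subgroup.zpowers w ≤ normalizer (X : Set G) := Subgroup.zpowers_le.2 (pow_mem hg _)
  have hYp : IsPGroup s (Subgroup.zpowers w) := IsPGroup.of_card (n := 1) (by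
    rw [Nat.card_zpowers, how, pow_one])
  by_contra hcon
  push Not at hcon
  have hne : X ⊔ Subgroup.zpowers w ≠ ⊤ := by
    intro h
    have hd : p ∣ Nat.card ↥(X ⊔ Subgroup.zpowers w) := by
      rw [h, Subgroup.card_top]; exact C.hpG
    rcases prime_dvd_mul_pgroup hY hX hYp C.hp hd with h1 | h1
    · exact C.hpq h1
    · exact hcon.1 h1.symm
  obtain ⟨n, hn⟩ := IsPGroup.iff_card.1 hX
  have hn0 : n ≠ 0 := fun h => hX1 (Subgroup.eq_bot_of_card_eq _ (by rw [hn, h, pow_zero]))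
  rcases C.sub _ hne (((hn ▸ dvd_pow_self q hn0) : q ∣ Nat.card X).trans
    (Subgroup.card_dvd_of_le le_sup_left)) s hs ((show s ∣ Nat.card (Subgroup.zpowers w) by rw [Nat.card_zpowers, how]).trans
      (Subgroup.card_dvd_of_le (le_sup_right (a := X) (b := Subgroup.zpowers w)))) with h | h
  · exact hcon.1 h
  · exact hcon.2 h

/-- a subgroup of order prime to `q` normalized by a Sylow `q`-subgroup is a `p`-group -/
theorem dvd_invariant (Q : Sylow q G) {M : Subgroup G}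
    (hQM : (Q : Subgroup G) ≤ normalizer (M : Set G)) (hM : ¬ q ∣ Nat.card M) {s : ℕ}
    (hs : s.Prime) (hsM : s ∣ Nat.card M) : s = p := by
  haveI := Fact.mk C.hq
  haveI := Fact.mk hs
  by_contra hsp
  have hsq : s ≠ q := fun h => hM (h ▸ hsM)
  obtain ⟨n, hn⟩ := IsPGroup.iff_card.1 Q.2
  have hcop : (Nat.card (Q : Subgroup G)).Coprime (Nat.card M) := by
    rw [hn]; exact Nat.Coprime.pow_left _ (C.hq.coprime_iff_not_dvd.2 hM)
  haveI : Group.IsNilpotent (Q : Subgroup G) := Q.2.isNilpotent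
  obtain ⟨R, hR⟩ := exists_invariant_sylow hQM hcop (Or.inl inferInstance) s
  set R₀ := (R : Subgroup M).map M.subtype with hR₀
  have hR₀p : IsPGroup s R₀ := R.2.map _
  have hne : R₀ ⊔ (Q : Subgroup G) ≠ ⊤ := by
    intro h
    have hd : p ∣ Nat.card ↥(R₀ ⊔ (Q : Subgroup G)) := by rw [h, Subgroup.card_top]; exact C.hpG
    rcases prime_dvd_mul_pgroup hR hR₀p Q.2 C.hp hd with h1 | h1
    · exact hsp h1.symm
    · exact C.hpq h1
  rcases C.sub _ hne ((Q.dvd_card_of_dvd_card C.hqG).trans (Subgroup.card_dvd_of_le le_sup_right))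
    s hs (((R.dvd_card_of_dvd_card hsM).trans (by
      rw [hR₀, Subgroup.card_map_of_injective M.subtype_injective])).trans
      (Subgroup.card_dvd_of_le le_sup_left)) with h | h
  · exact hsp h
  · exact hsq h

theorem not_complement [Fact q.Prime] : ¬ Cfsg.HasNormalPComplement q G := by
  intro h
  obtain ⟨N, hN, hc, k, hk⟩ := Cfsg.Lib.Transfer.hasNormalPComplement_iff.1 h
  obtain ⟨Q⟩ : Nonempty (Sylow q G) := inferInstance
  obtain ⟨r, hr, hrG, hrp, hrq⟩ := C.bad
  refine hrp (C.dvd_invariant Q (M := N) le_normalizer_of_normal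
    ((C.hq.coprime_iff_not_dvd).1 hc.symm) hr ?_)
  have h1 : r ∣ Nat.card N * N.index := by rw [Subgroup.card_mul_index]; exact hrG
  rcases hr.dvd_mul.1 h1 with h2 | h2
  · exact h2
  · rw [hk] at h2
    exact absurd ((Nat.prime_dvd_prime_iff_eq hr C.hq).1 (hr.dvd_of_dvd_pow h2)) hrq

end Ctx

/-- The special configuration. -/
structure Sp (G : Type*) [Group G] (p : ℕ) (Q : Sylow 2 G) (y : G) : Prop where
  hp2 : p ≠ 2
  hpG : p ∣ Nat.card G
  sub : ∀ H : Subgroup G, H ≠ ⊤ → 2 ∣ Nat.card H → ∀ s : ℕ, s.Prime → s ∣ Nat.card H → s = p ∨ s = 2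
  cardQ : Nat.card (Q : Subgroup G) = p + 1
  exp : ∀ u ∈ (Q : Subgroup G), u * u = 1
  yP : ∃ k, orderOf y = p ^ k
  yN : y ∈ normalizer ((Q : Subgroup G) : Set G)
  trans : ∀ u ∈ (Q : Subgroup G), u ≠ 1 → ∀ v ∈ (Q : Subgroup G), v ≠ 1 →
    ∃ i : ℕ, y ^ i * u * (y ^ i)⁻¹ = v
  comm : ∀ P : Sylow p G, IsMulCommutative P
  simple : ∀ M : Subgroup G, M.Normal → M = ⊥ ∨ M = ⊤

theorem Ctx.exists_special {p q : ℕ} (C : Ctx G p q) :
    ∃ (_ : Fact p.Prime) (Q : Sylow 2 G) (y : G), Sp G p Q y := by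
  haveI : Fact (Nat.Prime 2) := ⟨Nat.prime_two⟩
  haveI := Fact.mk C.hp
  haveI := Fact.mk C.hq
  set a := (Nat.card G).factorization q with ha
  have hqa : 1 < q ^ a := Nat.one_lt_pow
    (C.hq.factorization_pos_of_dvd Nat.card_pos.ne' C.hqG).ne' C.hq.one_lt
  -- a `p`-element acting nontrivially on a `q`-subgroup
  obtain ⟨X, hX, y, hy, hyN, v, hv, hnc⟩ : ∃ X : Subgroup G, IsPGroup q X ∧
      ∃ y : G, PE p y ∧ y ∈ normalizer (X : Set G) ∧ ∃ v ∈ X, y * v * y⁻¹ ≠ v := by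
    by_contra hcon
    push Not at hcon
    refine C.not_complement (Cfsg.Lib.Transfer.hasNormalPComplement_of_frobenius
      fun X hX g hg hcop => ?_)
    have hle : Subgroup.zpowers g ≤ Subgroup.centralizer (X : Set G) := by
      refine Cfsg.Lib.Transfer.le_of_forall_prime_pow fun g' hg' r k hr hk => ?_
      rcases Nat.eq_zero_or_pos k with rfl | hk0
      · rw [pow_zero, orderOf_eq_one_iff] at hk
        exact hk ▸ one_mem _
      rcases eq_or_ne X ⊥ with rfl | hX1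
      · rw [Subgroup.mem_centralizer_iff]
        intro v hv
        rw [Subgroup.mem_bot.1 hv, one_mul, mul_one]
      have hgN : g' ∈ normalizer (X : Set G) := (Subgroup.zpowers_le.2 hg) hg'
      rcases C.no_normalize hX hX1 hgN hr (hk ▸ dvd_pow_self r hk0.ne') with rfl | rfl
      · rw [Subgroup.mem_centralizer_iff]
        intro v hv
        exact (mul_inv_eq_iff_eq_mul.1 (hcon X hX g' ⟨k, hk⟩ hgN v hv)).symm
      · exfalso
        have h1 : r ∣ orderOf g :=
          (hk ▸ dvd_pow_self r hk0.ne').trans (orderOf_dvd_of_mem_zpowers hg')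
        exact hr.one_lt.ne' (Nat.eq_one_of_dvd_coprimes hcop h1 dvd_rfl)
    exact hle (Subgroup.mem_zpowers g)
  obtain ⟨O, hOp, hO⟩ := orbit_big hy hyN hv hnc
  obtain ⟨hle, hfull⟩ := card_le_sub_one O fun w hw => ⟨(hO w hw).1, (hO w hw).2.1⟩
  have hXle : Nat.card X ≤ q ^ a := by
    obtain ⟨n, hn⟩ := IsPGroup.iff_card.1 hX
    rw [hn]
    refine Nat.pow_le_pow_right C.hq.pos ?_
    exact (C.hq.pow_dvd_iff_le_factorization Nat.card_pos.ne').1 (hn ▸ card_subgroup_dvd_card X)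
  obtain ⟨hpa, hcomm⟩ : p = q ^ a - 1 ∧ ∀ P : Sylow p G, IsMulCommutative P := by
    have hl := C.large
    rw [← ha] at hl
    rcases hl with h | h
    · exfalso; omega
    · exact h
  have hXcard : Nat.card X = q ^ a := by omega
  have hq2 : q = 2 := by
    have heven : 2 ∣ q ^ a := by
      rw [show q ^ a = p + 1 by omega]
      exact (C.hp.odd_of_ne_two C.hp2).add_one.two_dvd
    exact ((Nat.prime_dvd_prime_iff_eq Nat.prime_two C.hq).1 (Nat.prime_two.dvd_of_dvd_pow heven)).symm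
  subst hq2
  let Q : Sylow 2 G := Sylow.ofCard X hXcard
  have hQX : (Q : Subgroup G) = X := rfl
  have htrans0 : ∀ w ∈ X, w ≠ 1 → ∃ i : ℕ, y ^ i * v * (y ^ i)⁻¹ = w := fun w hw hw1 =>
    (hO w (hfull (by omega) w hw hw1)).2.2
  have htrans : ∀ u ∈ X, u ≠ 1 → ∀ w ∈ X, w ≠ 1 → ∃ i : ℕ, y ^ i * u * (y ^ i)⁻¹ = w := by
    intro u hu hu1 w hw hw1
    obtain ⟨i, hi⟩ := htrans0 u hu hu1
    obtain ⟨j, hj⟩ := htrans0 w hw hw1
    obtain ⟨k, hk⟩ := hy
    -- `y^(N·i - i + j)` with `N` the order of `y`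
    refine ⟨j + i * (orderOf y - 1), ?_⟩
    have h0 : y ^ (i * (orderOf y - 1)) = (y ^ i)⁻¹ := by
      refine eq_inv_of_mul_eq_one_left ?_
      rw [← pow_add, ← Nat.mul_add_one, Nat.sub_add_cancel (orderOf_pos y), mul_comm, pow_mul,
        pow_orderOf_eq_one, one_pow]
    rw [pow_add, h0, ← hj, ← hi]
    group
  have hexp : ∀ u ∈ X, u * u = 1 := by
    obtain ⟨u₀, hu₀⟩ := exists_prime_orderOf_dvd_card' (G := X) 2
      (hXcard ▸ dvd_pow_self 2 (C.hq.factorization_pos_of_dvd Nat.card_pos.ne' C.hqG).ne')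
    intro u hu
    rcases eq_or_ne u 1 with rfl | hu1
    · rw [one_mul]
    have hu₀1 : (u₀ : G) ≠ 1 := fun h => by
      rw [← Subgroup.orderOf_coe, h, orderOf_one] at hu₀; omega
    obtain ⟨i, hi⟩ := htrans _ u₀.2 hu₀1 u hu hu1
    have h2 : (u₀ : G) * u₀ = 1 := by
      rw [← pow_two]
      exact (hu₀ ▸ Subgroup.orderOf_coe u₀ ▸ pow_orderOf_eq_one (u₀ : G))
    rw [← hi, show y ^ i * (u₀ : G) * (y ^ i)⁻¹ * (y ^ i * u₀ * (y ^ i)⁻¹) =
      y ^ i * ((u₀ : G) * u₀) * (y ^ i)⁻¹ by group, h2, mul_one, mul_inv_cancel]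
  -- normal subgroups
  have hodd : ∀ M : Subgroup G, M.Normal → M ≠ ⊤ → ¬ 2 ∣ Nat.card M := by
    intro M hMn hMt h2
    haveI := hMn
    obtain ⟨T⟩ : Nonempty (Sylow 2 M) := inferInstance
    have hFr := Sylow.normalizer_sup_eq_top T
    set T₀ := (T : Subgroup M).map M.subtype with hT₀
    obtain ⟨r, hr, hrG, hrp, hrq⟩ := C.bad
    haveI := Fact.mk hr
    have hrM : ¬ r ∣ Nat.card M := fun h => by
      rcases C.sub M hMt h2 r hr h with e | e
      · exact hrp e
      · exact hrq e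
    have hN : r ∣ Nat.card ↥(normalizer (T₀ : Set G)) := by
      have h1 : Nat.card ↥(normalizer (T₀ : Set G) ⊔ M) ∣
          Nat.card M * Nat.card ↥(normalizer (T₀ : Set G)) := by
        rw [sup_comm, ← card_sup_mul_card_inf
          le_normalizer_of_normal]
        exact dvd_mul_right _ _
      rw [hFr, Subgroup.card_top] at h1
      exact (hr.dvd_mul.1 (hrG.trans h1)).resolve_left hrM
    obtain ⟨g, hg⟩ := exists_prime_orderOf_dvd_card' r hN
    have hT1 : T₀ ≠ ⊥ := fun h => by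
      have := T.dvd_card_of_dvd_card h2
      rw [← Subgroup.card_map_of_injective M.subtype_injective, ← hT₀, h, Subgroup.card_bot] at this
      omega
    rcases C.no_normalize (T.2.map _) hT1 g.2 hr (by rw [Subgroup.orderOf_coe, hg]) with e | e
    · exact hrp e
    · exact hrq e
  have hpM : ∀ M : Subgroup G, M.Normal → M ≠ ⊤ → IsPGroup p M := fun M hMn hMt =>
    IsPGroup.of_card (Nat.eq_prime_pow_of_unique_prime_dvd Nat.card_pos.ne' fun {s} hs hsM =>
      C.dvd_invariant Q le_normalizer_of_normal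
        (hodd M hMn hMt) hs hsM)
  have hvy : y * v * y⁻¹ * v⁻¹ ∈ X ∧ y * v * y⁻¹ * v⁻¹ ≠ 1 :=
    ⟨mul_mem (((mem_normalizer_iff.1 hyN) v).1 hv) (inv_mem hv),
      fun h => hnc (mul_inv_eq_one.1 h)⟩
  have hnotp : ∀ M : Subgroup G, y * v * y⁻¹ * v⁻¹ ∈ M → ¬ IsPGroup p M := by
    intro M hM hMp
    refine hvy.2 (PE.eq_one_of_coprime (PE.of_mem hMp hM) (n := 2) ?_ ?_)
    · exact fun h => C.hp2 ((Nat.prime_dvd_prime_iff_eq C.hp Nat.prime_two).1 h)
    · rw [pow_two]; exact hexp _ hvy.1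
  have hG' : commutator G = ⊤ := by
    by_contra h
    refine hnotp _ ?_ (hpM (commutator G) inferInstance h)
    rw [show y * v * y⁻¹ * v⁻¹ = ⁅y, v⁆ from (commutatorElement_def y v).symm]
    exact Subgroup.commutator_mem_commutator (Subgroup.mem_top y) (Subgroup.mem_top v)
  have hsimple : ∀ M : Subgroup G, M.Normal → M = ⊥ ∨ M = ⊤ := by
    intro M hMn
    by_contra hcon
    push Not at hcon
    haveI := hMn
    have hMp := hpM M hMn hcon.2
    have hMP : ∀ P : Sylow p G, M ≤ (P : Subgroup G) := fun P m hm =>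
      mem_sylow_of_normalizes P (PE.of_mem hMp hm) <| by
        obtain ⟨P', hP'⟩ := hMp.exists_le_sylow
        obtain ⟨g, rfl⟩ := MulAction.exists_smul_eq G P' P
        refine Subgroup.le_normalizer (mem_smul_sylow.2 (hP' ?_))
        simpa using hMn.conj_mem m hm g⁻¹
    have hCall : ∀ z : G, PE p z → z ∈ Subgroup.centralizer (M : Set G) := by
      intro z hz
      obtain ⟨P, hP⟩ := hz.zpowers.exists_le_sylow
      rw [Subgroup.mem_centralizer_iff]
      intro m hm
      haveI := hcomm P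
      exact Subtype.ext_iff.1 (mul_comm' (⟨m, hMP P hm⟩ : (P : Subgroup G))
        ⟨z, hP (Subgroup.mem_zpowers z)⟩)
    by_cases hC : Subgroup.centralizer (M : Set G) = ⊤
    · obtain ⟨P⟩ : Nonempty (Sylow p G) := inferInstance
      haveI := hcomm P
      letI : CommGroup (P : Subgroup G) := { mul_comm := mul_comm' }
      refine hcon.1 ((Subgroup.eq_bot_iff_forall _).2 fun m hm => ?_)
      have hmc : ∀ g : G, g * m = m * g := fun g =>
        ((Subgroup.mem_centralizer_iff.1 (hC ▸ Subgroup.mem_top g)) m hm).symm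
      have hkey : ∀ (k : ℕ) (g₀ : G), g₀⁻¹ * m ^ k * g₀ ∈ (P : Subgroup G) →
          g₀⁻¹ * m ^ k * g₀ = m ^ k := fun k g₀ _ => by
        rw [mul_assoc, ← (Commute.pow_right (hmc g₀) k).eq, inv_mul_cancel_left]
      have hV : MonoidHom.transfer (MonoidHom.id (P : Subgroup G)) m = 1 :=
        MonoidHom.mem_ker.1 (Abelianization.commutator_subset_ker _ (hG' ▸ Subgroup.mem_top m))
      rw [MonoidHom.transfer_eq_pow (MonoidHom.id (P : Subgroup G)) m hkey] at hV
      exact PE.eq_one_of_coprime (PE.of_mem hMp hm) P.not_dvd_index (congrArg Subtype.val hV)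
    · refine hnotp _ ?_ (hpM _ inferInstance hC)
      rw [show y * v * y⁻¹ * v⁻¹ = y * (v * y⁻¹ * v⁻¹) by group]
      exact mul_mem (hCall y hy)
        ((inferInstance : (Subgroup.centralizer (M : Set G)).Normal).conj_mem _
          (inv_mem (hCall y hy)) v)
  refine ⟨inferInstance, Q, y, ⟨C.hp2, C.hpG, C.sub, ?_, hexp, hy, hyN, htrans, hcomm, hsimple⟩⟩
  rw [hQX, hXcard]; omega

end Cfsg.Lib.Mixed
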